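import Mathlib

/-!
Recognition of `SL(2, 3)` from two generators, and a conjugacy lemma for elements of order three
modulo a group of order prime to three.
-/

set_option autoImplicit false
set_option maxRecDepth 8000

namespace Cfsg.Agent.SuzukiThree

open Subgroup

/-- `SL(2, 3)`. -/
abbrev S23 := Matrix.SpecialLinearGroup (Fin 2) (ZMod 3)

def sA : S23 := ⟨!![1, 1; 0, 1], by decide⟩
def sI : S23 := ⟨!![0, 2; 1, 0], by decide⟩
def sJ : S23 := sA * sI * sA⁻¹
def sW : S23 := sI * sI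

/-- The normal form. -/
def sForm (α β γ : Fin 2) (δ : Fin 3) : S23 :=
  sI ^ (α : ℕ) * sJ ^ (β : ℕ) * sW ^ (γ : ℕ) * sA ^ (δ : ℕ)

theorem sForm_surj : ∀ g : S23, ∃ α β γ δ, sForm α β γ δ = g := by decide +kernel

theorem sForm_inj : ∀ α β γ δ α' β' γ' δ', sForm α β γ δ = sForm α' β' γ' δ' →
    α = α' ∧ β = β' ∧ γ = γ' ∧ δ = δ' := by decide +kernel

/-- Right multiplication by `i` and by `a` in normal form. -/
def stepI (α β γ : Fin 2) (δ : Fin 3) : Fin 2 × Fin 2 × Fin 2 :=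
  if δ = 0 then (α + 1, β, γ + α + β)
  else if δ = 1 then (α, β + 1, γ + β)
  else (α + 1, β + 1, γ + α + β + β)

theorem sStep : ∀ α β γ δ, sForm α β γ δ * sI =
    sForm (stepI α β γ δ).1 (stepI α β γ δ).2.1 (stepI α β γ δ).2.2 δ ∧
    sForm α β γ δ * sA = sForm α β γ (δ + 1) := by decide +kernel

/-- Every normal subgroup other than the trivial one contains the central involution. -/
theorem sW_reached : ∀ g : S23, g = 1 ∨ (∃ n : Fin 6, g ^ (n : ℕ) = sW) ∨
    ∃ h : S23, ∃ n : Fin 6, (g * h * g⁻¹ * h⁻¹) ^ (n : ℕ) = sW := by decide +kernel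

variable {X : Type*} [Group X]

/-- The data. -/
structure SLData (i j a w : X) : Prop where
  ii : i * i = w
  jj : j * j = w
  ww : w * w = 1
  w1 : w ≠ 1
  ji : j * i = w * (i * j)
  ai : a * i * a⁻¹ = j
  aj : a * j * a⁻¹ = i * j
  a3 : a ^ 3 = 1

namespace SLData

variable {i j a w : X} (D : SLData i j a w)
include D

theorem wi : Commute w i := by rw [← D.ii]; exact (Commute.refl i).mul_left (Commute.refl i)

theorem wj : Commute w j := by rw [← D.jj]; exact (Commute.refl j).mul_left (Commute.refl j)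

theorem wa : Commute w a := by
  show w * a = a * w
  calc w * a = (a * i * a⁻¹) * (a * i * a⁻¹) * a := by rw [D.ai, D.jj]
    _ = a * (i * i) := by group
    _ = _ := by rw [D.ii]

omit D in
theorem pow_fin_two {w : X} (h : w * w = 1) (a b : Fin 2) : w ^ (a : ℕ) * w ^ (b : ℕ) = w ^ ((a + b : Fin 2) : ℕ) := by
  fin_cases a <;> fin_cases b <;> simp [h]

/-- The normal form in `X`. -/
def form (_ : SLData i j a w) (α β γ : Fin 2) (δ : Fin 3) : X :=
  i ^ (α : ℕ) * j ^ (β : ℕ) * w ^ (γ : ℕ) * a ^ (δ : ℕ)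

theorem two_cases (x : Fin 2) : x = 0 ∨ x = 1 := by fin_cases x <;> simp

theorem form_i (α β γ : Fin 2) :
    i ^ (α : ℕ) * j ^ (β : ℕ) * w ^ (γ : ℕ) * i =
      i ^ ((α + 1 : Fin 2) : ℕ) * j ^ (β : ℕ) * w ^ ((γ + α + β : Fin 2) : ℕ) := by
  have hwi := D.wi.eq
  have hwj := D.wj.eq
  rw [mul_assoc _ (w ^ _), (D.wi.pow_left (γ : ℕ)).eq, ← mul_assoc, ← pow_fin_two D.ww (γ + α) β,
    ← pow_fin_two D.ww γ α]
  have key : i ^ (α : ℕ) * j ^ (β : ℕ) * i =
      i ^ ((α + 1 : Fin 2) : ℕ) * j ^ (β : ℕ) * (w ^ (α : ℕ) * w ^ (β : ℕ)) := by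
    rcases D.two_cases α with rfl | rfl <;> rcases D.two_cases β with rfl | rfl
    · simp
    · simp [D.ji]
      rw [← mul_assoc, hwi, mul_assoc, hwj, ← mul_assoc]
    · simp [D.ii]
    · simp only [Fin.isValue, Fin.val_one, pow_one, show (1 + 1 : Fin 2) = 0 from rfl, Fin.val_zero, pow_zero,
        one_mul, D.ww, mul_one]
      rw [mul_assoc, D.ji, ← mul_assoc, ← hwi, mul_assoc, ← mul_assoc i, D.ii, ← mul_assoc, D.ww, one_mul]
  rw [key]
  simp only [mul_assoc, ← pow_add]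
  congr 3
  omega

theorem form_j (α β γ : Fin 2) :
    i ^ (α : ℕ) * j ^ (β : ℕ) * w ^ (γ : ℕ) * j =
      i ^ (α : ℕ) * j ^ ((β + 1 : Fin 2) : ℕ) * w ^ ((γ + β : Fin 2) : ℕ) := by
  rw [mul_assoc _ (w ^ _), (D.wj.pow_left (γ : ℕ)).eq, ← mul_assoc, ← pow_fin_two D.ww γ β]
  rcases D.two_cases β with rfl | rfl
  · simp [mul_assoc]
  · simp only [Fin.isValue, Fin.val_one, pow_one, show (1 + 1 : Fin 2) = 0 from rfl, Fin.val_zero, pow_zero,
      mul_one, mul_assoc]
    rw [← mul_assoc j j, D.jj, ← pow_succ', pow_succ]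

theorem form_step (α β γ : Fin 2) (δ : Fin 3) : D.form α β γ δ * i =
    D.form (stepI α β γ δ).1 (stepI α β γ δ).2.1 (stepI α β γ δ).2.2 δ := by
  unfold form
  fin_cases δ
  · simp [stepI, D.form_i]
  · simp only [stepI, Fin.mk_one, Fin.isValue, Fin.val_one, pow_one, one_ne_zero, ↓reduceIte]
    rw [← D.form_j, ← D.ai]; group
  · show i ^ (α : ℕ) * j ^ (β : ℕ) * w ^ (γ : ℕ) * a ^ 2 * i =
      i ^ ((α + 1 : Fin 2) : ℕ) * j ^ ((β + 1 : Fin 2) : ℕ) * w ^ ((γ + α + β + β : Fin 2) : ℕ) * a ^ 2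
    have e : a ^ 2 * i = (i * j) * a ^ 2 := by
      rw [← D.aj, ← D.ai, pow_two]; group
    rw [mul_assoc _ (a ^ 2), e, ← mul_assoc, ← mul_assoc, D.form_i, D.form_j]

theorem form_a (α β γ : Fin 2) (δ : Fin 3) : D.form α β γ δ * a = D.form α β γ (δ + 1) := by
  unfold form
  rw [mul_assoc _ (a ^ _), ← pow_succ]
  congr 1
  fin_cases δ
  · rfl
  · rfl
  · exact D.a3.trans (pow_zero a).symm

/-- The homomorphism on the normal form. -/
noncomputable def toFun' (g : S23) : X :=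
  D.form (sForm_surj g).choose (sForm_surj g).choose_spec.choose
    (sForm_surj g).choose_spec.choose_spec.choose (sForm_surj g).choose_spec.choose_spec.choose_spec.choose

theorem toFun_form (α β γ : Fin 2) (δ : Fin 3) : D.toFun' (sForm α β γ δ) = D.form α β γ δ := by
  have h := (sForm_surj (sForm α β γ δ)).choose_spec.choose_spec.choose_spec.choose_spec
  obtain ⟨h1, h2, h3, h4⟩ := sForm_inj _ _ _ _ _ _ _ _ h
  show D.form _ _ _ _ = _
  congr 1

theorem toFun_right (g : S23) : D.toFun' (g * sI) = D.toFun' g * i ∧ D.toFun' (g * sA) = D.toFun' g * a := by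
  obtain ⟨α, β, γ, δ, rfl⟩ := sForm_surj g
  rw [(sStep α β γ δ).1, (sStep α β γ δ).2, D.toFun_form, D.toFun_form, D.toFun_form, D.form_step, D.form_a]
  exact ⟨rfl, rfl⟩

theorem toFun_gen : D.toFun' sI = i ∧ D.toFun' sA = a ∧ D.toFun' 1 = 1 := by
  have h1 : sForm 0 0 0 0 = 1 := by decide +kernel
  have h2 := D.toFun_right 1
  have h3 : D.toFun' 1 = 1 := by rw [← h1, D.toFun_form]; simp [form]
  rw [one_mul, one_mul, h3, one_mul, one_mul] at h2
  exact ⟨h2.1, h2.2, h3⟩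

theorem toFun_mul (g h : S23) : D.toFun' (g * h) = D.toFun' g * D.toFun' h := by
  let M : Submonoid S23 :=
    { carrier := {h | ∀ g, D.toFun' (g * h) = D.toFun' g * D.toFun' h}
      one_mem' := fun g => by rw [mul_one, D.toFun_gen.2.2, mul_one]
      mul_mem' := fun {x y} hx hy g => by
        rw [← mul_assoc, hy, hx, hy x, mul_assoc] }
  have hI : sI ∈ M := fun g => by rw [(D.toFun_right g).1, D.toFun_gen.1]
  have hA : sA ∈ M := fun g => by rw [(D.toFun_right g).2, D.toFun_gen.2.1]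
  have hJ : sJ ∈ M := by
    rw [show sJ = sA * sI * (sA * sA) by decide +kernel]
    exact M.mul_mem (M.mul_mem hA hI) (M.mul_mem hA hA)
  suffices h ∈ M from this g
  obtain ⟨α, β, γ, δ, rfl⟩ := sForm_surj h
  exact M.mul_mem (M.mul_mem (M.mul_mem (M.pow_mem hI _) (M.pow_mem hJ _))
    (M.pow_mem (M.mul_mem hI hI) _)) (M.pow_mem hA _)

/-- The homomorphism. -/
noncomputable def hom : S23 →* X := MonoidHom.mk' D.toFun' D.toFun_mul

theorem injective : Function.Injective D.hom := by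
  have hi1 : i ≠ 1 := fun e => D.w1 (by rw [← D.ii, e, one_mul])
  have hW : D.hom sW = w := by
    show D.hom (sI * sI) = w
    rw [map_mul, show D.hom sI = i from D.toFun_gen.1, D.ii]
  rw [← MonoidHom.ker_eq_bot_iff, eq_bot_iff]
  intro g hg
  rw [MonoidHom.mem_ker] at hg
  rcases sW_reached g with e | ⟨n, e⟩ | ⟨h, n, e⟩
  · exact mem_bot.2 e
  · refine absurd ?_ D.w1
    rw [← hW, ← e, map_pow, hg, one_pow]
  · refine absurd ?_ D.w1
    rw [← hW, ← e, map_pow, map_mul, map_mul, map_mul, hg, map_inv, hg]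
    simp

theorem range_eq : D.hom.range = Subgroup.closure {i, a} := by
  refine le_antisymm ?_ ((Subgroup.closure_le _).2 ?_)
  · rintro x ⟨g, rfl⟩
    obtain ⟨α, β, γ, δ, rfl⟩ := sForm_surj g
    show D.toFun' _ ∈ _
    rw [D.toFun_form]
    have hi : i ∈ Subgroup.closure {i, a} := subset_closure (by simp)
    have ha : a ∈ Subgroup.closure {i, a} := subset_closure (by simp)
    have hj : j ∈ Subgroup.closure {i, a} := D.ai ▸ mul_mem (mul_mem ha hi) (inv_mem ha)
    exact mul_mem (mul_mem (mul_mem (pow_mem hi _) (pow_mem hj _))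
      (pow_mem (D.ii ▸ mul_mem hi hi) _)) (pow_mem ha _)
  · rintro x (rfl | rfl)
    · exact ⟨sI, D.toFun_gen.1⟩
    · exact ⟨sA, D.toFun_gen.2.1⟩

/-- The generated subgroup is `SL(2, 3)`. -/
noncomputable def equiv : ↥(Subgroup.closure {i, a}) ≃* S23 :=
  ((MonoidHom.ofInjective D.injective).trans (MulEquiv.subgroupCongr D.range_eq)).symm

end SLData

/-- Normalization of the data. -/
theorem exists_slData {i a w : X} (hii : i * i = w) (hww : w * w = 1) (hw1 : w ≠ 1) (ha : a ^ 3 = 1)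
    (hji : (a * i * a⁻¹) * i = w * (i * (a * i * a⁻¹)))
    (hk : a * (a * i * a⁻¹) * a⁻¹ = i * (a * i * a⁻¹) ∨ a * (a * i * a⁻¹) * a⁻¹ = (a * i * a⁻¹) * i)
    (hwa : w * a = a * w) :
    ∃ j b, SLData i j b w ∧ Subgroup.closure ({i, b} : Set X) = Subgroup.closure {i, a} := by
  have hjj : (a * i * a⁻¹) * (a * i * a⁻¹) = w := by
    calc (a * i * a⁻¹) * (a * i * a⁻¹) = a * (i * i) * a⁻¹ := by group
      _ = w := by rw [hii, ← hwa, mul_inv_cancel_right]
  set j := a * i * a⁻¹ with hj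
  rcases hk with e | e
  · exact ⟨j, a, ⟨hii, hjj, hww, hw1, hji, rfl, e, ha⟩, rfl⟩
  · have hwi : w * i = i * w := by rw [← hii, mul_assoc]
    have hinv : a⁻¹ = a * a := by
      rw [inv_eq_iff_mul_eq_one, ← ha, pow_succ, pow_two]
      exact (mul_assoc a a a).symm
    have hk2 : a⁻¹ * i * a⁻¹⁻¹ = j * i := by
      rw [← e, hj]
      calc a⁻¹ * i * a⁻¹⁻¹ = (a * a) * i * (a * a)⁻¹ := by rw [hinv]
        _ = _ := by group
    have hkk : (j * i) * (j * i) = w := by
      rw [← hk2]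
      calc a⁻¹ * i * a⁻¹⁻¹ * (a⁻¹ * i * a⁻¹⁻¹) = a⁻¹ * (i * i * a) := by group
        _ = w := by rw [hii, hwa, inv_mul_cancel_left]
    have h1 : i * (j * i) = j := by
      calc i * (j * i) = i * w * (i * j) := by rw [hji, mul_assoc i w]
        _ = w * (i * i) * j := by rw [← hwi]; group
        _ = j := by rw [hii, hww, one_mul]
    refine ⟨j * i, a⁻¹, ⟨hii, hkk, hww, hw1, ?_, hk2, ?_, by rw [inv_pow, ha, inv_one]⟩, ?_⟩
    · rw [h1, mul_assoc, hii]
      calc j * w = a * (i * w) * a⁻¹ := by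
            rw [hj, mul_assoc _ a⁻¹ w, show a⁻¹ * w = w * a⁻¹ by
              rw [inv_mul_eq_iff_eq_mul, ← mul_assoc, ← hwa, mul_inv_cancel_right]]
            group
        _ = a * (w * i) * a⁻¹ := by rw [hwi]
        _ = w * j := by rw [hj, ← mul_assoc a w, ← hwa]; group
    · rw [h1]
      calc a⁻¹ * (j * i) * a⁻¹⁻¹ = a⁻¹ * (a * j * a⁻¹) * a⁻¹⁻¹ := by rw [e]
        _ = j := by group
    · refine le_antisymm ((Subgroup.closure_le _).2 ?_) ((Subgroup.closure_le _).2 ?_) <;>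
        rintro x (h | h) <;> rw [h]
      · exact subset_closure (by simp)
      · exact inv_mem (subset_closure (by simp))
      · exact subset_closure (by simp)
      · have h0 : a⁻¹ ∈ Subgroup.closure ({i, a⁻¹} : Set X) := subset_closure (by simp)
        simpa using inv_mem h0

/-- Elements of order three congruent modulo a group of order prime to three. -/
theorem conj_of_coset [Finite X] {K : Subgroup X} (hK : ¬ 3 ∣ Nat.card ↥K) {y y' : X}
    (hnorm : ∀ k ∈ K, y * k * y⁻¹ ∈ K) (hy : y ^ 3 = 1) (hy' : y' ^ 3 = 1) (h : y' * y⁻¹ ∈ K) :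
    ∃ k ∈ K, k * y * k⁻¹ = y' := by
  classical
  haveI := Fintype.ofFinite ↥K
  haveI : Fact (Nat.Prime 3) := ⟨Nat.prime_three⟩
  have hm : ∀ k : ↥K, y' * (k : X) * y⁻¹ ∈ K := fun k => by
    rw [show y' * (k : X) * y⁻¹ = y' * y⁻¹ * (y * k * y⁻¹) by group]
    exact K.mul_mem h (hnorm _ k.2)
  let f : ↥K → ↥K := fun k => ⟨y' * k * y⁻¹, hm k⟩
  have hf3 : ∀ k, f (f (f k)) = k := fun k => Subtype.ext (by
    show y' * (y' * (y' * k * y⁻¹) * y⁻¹) * y⁻¹ = k
    calc y' * (y' * (y' * k * y⁻¹) * y⁻¹) * y⁻¹ = y' ^ 3 * k * (y ^ 3)⁻¹ := by simp [pow_succ, mul_assoc]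
      _ = k := by rw [hy, hy']; group)
  let σ : Equiv.Perm ↥K := ⟨f, fun k => f (f k), hf3, hf3⟩
  have hσ : σ ^ 3 ^ 1 = 1 := Equiv.ext fun k => hf3 k
  obtain ⟨k, hk⟩ := Equiv.Perm.exists_fixed_point_of_prime (p := 3) (n := 1)
    (by rwa [← Nat.card_eq_fintype_card]) hσ
  refine ⟨k, k.2, ?_⟩
  have e : y' * (k : X) * y⁻¹ = k := congrArg Subtype.val hk
  calc (k : X) * y * (k : X)⁻¹ = y' * (k : X) * y⁻¹ * y * (k : X)⁻¹ := by rw [e]
    _ = y' := by group

end Cfsg.Agent.SuzukiThree
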