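import Cfsg.Agent.Lib.SuzukiThree.Frame
import Cfsg.Prelude.Def_CaseTheorems

/-!
The adapted data from a subgroup of order three whose commutator with `Q` is a quaternion group.
-/

set_option autoImplicit false
set_option maxRecDepth 8000
set_option synthInstance.maxSize 4096

namespace Cfsg.Agent.SuzukiThree

open Subgroup Cfsg.Agent.LargeExtra Cfsg.Agent.OctadInv.Orbits Cfsg.Agent.SuzukiType
open scoped commutatorElement

universe u

variable {G : Type u} [Group G] [Finite G]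

theorem exists_data (z : G) (hz : orderOf z = 2) (Q : Subgroup (centralizer ({z} : Set G))) [Q.Normal]
    (hF : Cfsg.generalizedFittingSubgroup (centralizer ({z} : Set G)) = Q) (hQ : Cfsg.IsExtraspecial 2 Q)
    (hcard : Nat.card Q = 2 ^ 7)
    (e : (centralizer ({z} : Set G)) ⧸ Q ≃* Cfsg.Omega (ZMod 2) (Cfsg.quadFormMinus 2 (ZMod 2) 1 1))
    (hnwc : ∃ g : G, (∃ hq : g * z * g⁻¹ ∈ centralizer ({z} : Set G),
      (⟨g * z * g⁻¹, hq⟩ : centralizer ({z} : Set G)) ∈ Q) ∧ g * z * g⁻¹ ≠ z)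
    (Y : Subgroup (centralizer ({z} : Set G))) (hY : Nat.card Y = 3) (hQY : Nat.card ↥⁅Q, Y⁆ = 8)
    (hQYna : ¬ IsMulCommutative ↥⁅Q, Y⁆) :
    ∃ (y a : G) (Q1 : Subgroup G), Y.map (centralizer ({z} : Set G)).subtype = zpowers y ∧
      Nonempty (Su (Q.map (centralizer ({z} : Set G)).subtype) Q1 z a y) := by
  classical
  let C := centralizer ({z} : Set G)
  set Q0 := Q.map C.subtype with hQ0
  have hc0 : Nat.card ↥Q0 = 128 := by
    rw [hQ0, card_map_of_injective C.subtype_injective, hcard]; norm_num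
  have h : Ctr Q0 z := Ctr.of_fitting hz (map_subtype_le _) (by rw [hF])
    (isExtraspecial_of_equiv hQ (Q.equivMapOfInjective _ C.subtype_injective))
  obtain ⟨g, ⟨hgC, hgQ⟩, hgz⟩ := hnwc
  have hgQ0 : g * z * g⁻¹ ∈ Q0 := ⟨_, hgQ, rfl⟩
  have P := (Pair.mk' h hgQ0 hgz).two (by omega)
  have ha1 : g * z * g⁻¹ ≠ 1 := fun e0 => h.ne_one (conj_eq_one_iff.1 e0)
  have haa : g * z * g⁻¹ * (g * z * g⁻¹) = 1 := by
    calc g * z * g⁻¹ * (g * z * g⁻¹) = g * (z * z) * g⁻¹ := by group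
      _ = 1 := by rw [h.zz]; group
  have heF : Cfsg.Omega (ZMod 2) (Cfsg.quadFormMinus 2 (ZMod 2) 1 1) ≃*
      ↥(Cfsg.Omega (ZMod 2) ⇑F6) := by
    rw [show F6 = Classical.OrthForms.minQ (ZMod 2) 2 1 1 from rfl, Classical.OrthForms.minQ_eq]
  let π0 : ↥C →* ↥(Cfsg.Omega (ZMod 2) ⇑F6) :=
    heF.toMonoidHom.comp (e.toMonoidHom.comp (QuotientGroup.mk' Q))
  have hsurj : Function.Surjective π0 :=
    heF.surjective.comp (e.surjective.comp (QuotientGroup.mk'_surjective Q))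
  have hker : ∀ c, π0 c = 1 ↔ (c : G) ∈ Q0 := fun c => by
    show heF (e (QuotientGroup.mk' Q c)) = 1 ↔ _
    rw [MulEquiv.map_eq_one_iff, MulEquiv.map_eq_one_iff]
    refine (QuotientGroup.eq_one_iff c).trans ⟨fun hc => ⟨c, hc, rfl⟩, ?_⟩
    rintro ⟨d, hd, hdc⟩
    rwa [← Subtype.ext hdc]
  obtain ⟨F⟩ := frame_exists h hc0 π0 hsurj hker hgQ0 haa ha1 hgz
  let S : St Q0 _ z (g * z * g⁻¹) := ⟨P, F⟩
  haveI : Fact (Nat.Prime 3) := ⟨Nat.prime_three⟩
  haveI : IsCyclic ↥Y := isCyclic_of_prime_card hY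
  obtain ⟨y0, hy0⟩ := IsCyclic.exists_generator (α := ↥Y)
  have hord : orderOf y0 = 3 := by rw [orderOf_eq_card_of_forall_mem_zpowers hy0, hY]
  have hY0 : Y = zpowers (y0 : ↥C) := by
    refine le_antisymm (fun x hx => ?_) (zpowers_le.2 y0.2)
    obtain ⟨n, hn⟩ := mem_zpowers_iff.1 (hy0 ⟨x, hx⟩)
    exact mem_zpowers_iff.2 ⟨n, by rw [← Subgroup.coe_zpow, hn]⟩
  let y : G := ((y0 : ↥C) : G)
  have hy3 : y ^ 3 = 1 := by
    have := pow_orderOf_eq_one y0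
    rw [hord] at this
    exact congrArg (fun u : ↥Y => ((u : ↥C) : G)) this
  have hy1 : y ≠ 1 := fun e0 => by
    have : y0 = 1 := Subtype.ext (Subtype.ext e0)
    rw [this, orderOf_one] at hord
    norm_num at hord
  have hyz : y * z = z * y := mem_centralizer_singleton_iff.1 (y0 : ↥C).2
  set L := ⁅Q, Y⁆.map C.subtype with hL
  have hLQ : L ≤ Q0 := map_mono (commutator_le_left Q Y)
  have hL8 : Nat.card ↥L = 8 := by rw [hL, card_map_of_injective C.subtype_injective, hQY]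
  have hLna : ¬ IsMulCommutative ↥L := fun hc => hQYna ⟨⟨fun u v => by
    refine (⁅Q, Y⁆.equivMapOfInjective _ C.subtype_injective).injective ?_
    rw [map_mul, map_mul]
    exact hc.is_comm.comm _ _⟩⟩
  have hLy : ∀ x ∈ Q0, y * x * y⁻¹ * x⁻¹ ∈ L := by
    rintro _ ⟨x, hx, rfl⟩
    refine ⟨(⁅x, (y0 : ↥C)⁆)⁻¹, inv_mem (commutator_mem_commutator hx y0.2), ?_⟩
    simp only [commutatorElement_def, map_mul, map_inv]
    show (_ * y * _ * y⁻¹)⁻¹ = y * _ * y⁻¹ * _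
    group
  have hLn : ∀ x ∈ L, y * x * y⁻¹ ∈ L := by
    rintro _ ⟨x, hx, rfl⟩
    refine ⟨(y0 : ↥C) * x * (y0 : ↥C)⁻¹, ?_, rfl⟩
    have hQm : Q.map (MulAut.conj (y0 : ↥C)).toMonoidHom ≤ Q := by
      rintro _ ⟨u, hu, rfl⟩
      exact Normal.conj_mem inferInstance u hu _
    have hYm : Y.map (MulAut.conj (y0 : ↥C)).toMonoidHom ≤ Y := by
      rintro _ ⟨u, hu, rfl⟩
      exact mul_mem (mul_mem y0.2 hu) (inv_mem y0.2)
    refine commutator_mono hQm hYm ?_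
    rw [← map_commutator]
    exact ⟨x, hx, rfl⟩
  obtain ⟨a, Q1, hsu⟩ := exists_su S hc0 hy3 hy1 hyz L hLQ hL8 hLna hLy hLn
  exact ⟨y, a, Q1, by rw [hY0, MonoidHom.map_zpowers]; rfl, hsu⟩

end Cfsg.Agent.SuzukiThree
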