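import Cfsg.Prelude.Def_Classical
import Cfsg.Agent.Lib.MonomialMult.NineField
import Cfsg.Agent.Lib.MonomialMult.FieldChange
import Cfsg.Agent.Lib.Forms.HermStd

/-!
# A root element and an element of order four in the centralizer of an involution of `PSU₄(3)`

Explicit matrices over the model field with nine elements, transported to every such field.
-/

set_option autoImplicit false
set_option maxRecDepth 100000

namespace Cfsg.Agent.SuzukiThree

open Matrix Cfsg.Agent.MonomialMult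
open scoped commutatorElement

namespace PsuRootModel

/-- A matrix from codes. -/
def mat (a : Fin 4 → Fin 4 → ℕ) : Matrix (Fin 4) (Fin 4) Nine := Matrix.of fun i j => Nine.ofN (a i j)

/-- The matrix lies in `SU₄(3)`, checked by evaluation. -/
def Ok (M : Matrix (Fin 4) (Fin 4) Nine) : Prop := M.det = 1 ∧ Mᵀ * M.map (fun x => x * x * x) = 1

theorem preserves {M : Matrix (Fin 4) (Fin 4) Nine} (h : Mᵀ * M.map (fun x => x * x * x) = 1)
    (u v : Fin 4 → Nine) : Cfsg.hermForm 4 Nine 3 (M *ᵥ u) (M *ᵥ v) = Cfsg.hermForm 4 Nine 3 u v := by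
  have hq : M.map (fun x => x * x * x) = M.map (Forms.HermStd.qHom Nine.card) :=
    congrArg M.map (funext fun x => by simp [pow_succ, mul_assoc])
  have key : ∀ a b : Fin 4 → Nine,
      Cfsg.hermForm 4 Nine 3 a b = a ⬝ᵥ (Forms.HermStd.qHom Nine.card ∘ b) := fun a b => rfl
  rw [hq] at h
  rw [key, key]
  have e : Forms.HermStd.qHom Nine.card ∘ (M *ᵥ v) =
      M.map (Forms.HermStd.qHom Nine.card) *ᵥ (Forms.HermStd.qHom Nine.card ∘ v) :=
    funext fun i => RingHom.map_mulVec _ M v i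
  rw [e, ← Matrix.vecMul_transpose, ← Matrix.dotProduct_mulVec, Matrix.mulVec_mulVec, h, Matrix.one_mulVec]

/-- An element of `SU₄(3)` from a checked matrix. -/
def el (M : Matrix (Fin 4) (Fin 4) Nine) (h : Ok M) : Cfsg.SU 4 Nine 3 :=
  ⟨⟨M, h.1⟩, fun u v => preserves h.2 u v⟩

theorem el_mul {A B C : Matrix (Fin 4) (Fin 4) Nine} (hA : Ok A) (hB : Ok B) (hC : Ok C) (h : A * B = C) :
    el A hA * el B hB = el C hC :=
  Subtype.ext (Subtype.ext h)

theorem el_one (h : Ok 1) : el 1 h = 1 := Subtype.ext (Subtype.ext rfl)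

/-- The involution. -/
def zM : Matrix (Fin 4) (Fin 4) Nine := mat ![![2, 0, 0, 0], ![0, 2, 0, 0], ![0, 0, 1, 0], ![0, 0, 0, 1]]
/-- The root element. -/
def tM : Matrix (Fin 4) (Fin 4) Nine := mat ![![5, 6, 0, 0], ![7, 6, 0, 0], ![0, 0, 1, 0], ![0, 0, 0, 1]]
/-- The first transvection of the second plane. -/
def pM : Matrix (Fin 4) (Fin 4) Nine := mat ![![1, 0, 0, 0], ![0, 1, 0, 0], ![0, 0, 5, 6], ![0, 0, 7, 6]]
/-- The second transvection of the second plane. -/
def qM : Matrix (Fin 4) (Fin 4) Nine := mat ![![1, 0, 0, 0], ![0, 1, 0, 0], ![0, 0, 5, 5], ![0, 0, 3, 6]]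
/-- The element of order four. -/
def iM : Matrix (Fin 4) (Fin 4) Nine := mat ![![1, 0, 0, 0], ![0, 1, 0, 0], ![0, 0, 4, 0], ![0, 0, 0, 8]]
/-- The first unipotent element. -/
def gM : Matrix (Fin 4) (Fin 4) Nine := mat ![![2, 7, 0, 2], ![3, 0, 0, 6], ![0, 0, 1, 0], ![1, 7, 0, 1]]
/-- The second unipotent element. -/
def kM : Matrix (Fin 4) (Fin 4) Nine := mat ![![0, 5, 0, 5], ![6, 2, 0, 1], ![0, 0, 1, 0], ![3, 2, 0, 1]]
/-- An element exchanging the planes. -/
def jM : Matrix (Fin 4) (Fin 4) Nine := mat ![![0, 0, 1, 0], ![0, 0, 0, 1], ![1, 0, 0, 0], ![0, 1, 0, 0]]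

instance (M : Matrix (Fin 4) (Fin 4) Nine) : Decidable (Ok M) := by unfold Ok; infer_instance

theorem z_ok : Ok zM := by decide +kernel
theorem t_ok : Ok tM := by decide +kernel
theorem p_ok : Ok pM := by decide +kernel
theorem q_ok : Ok qM := by decide +kernel
theorem i_ok : Ok iM := by decide +kernel
theorem g_ok : Ok gM := by decide +kernel
theorem k_ok : Ok kM := by decide +kernel
theorem j_ok : Ok jM := by decide +kernel

theorem relations : zM * zM = 1 ∧ tM * tM * tM = 1 ∧ pM * pM * pM = 1 ∧ qM * qM * qM = 1 ∧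
    iM * iM * (iM * iM) = 1 ∧ tM * zM = zM * tM ∧ iM * zM = zM * iM ∧ iM * tM = tM * iM ∧
    pM * zM = zM * pM ∧ qM * zM = zM * qM ∧ pM * qM = iM ∧ gM * tM = tM * gM ∧ kM * tM = tM * kM ∧
    gM * kM = tM * kM * gM ∧ zM * jM ≠ jM * zM ∧ tM * jM ≠ jM * tM ∧ iM * iM * jM ≠ jM * (iM * iM) := by
  decide +kernel

theorem model : ∃ zc t i : Cfsg.PSU 4 Nine 3, orderOf zc = 2 ∧ t ^ 3 = 1 ∧ t ≠ 1 ∧ t * zc = zc * t ∧
    i * zc = zc * i ∧ i * t = t * i ∧ i ^ 4 = 1 ∧ i ^ 2 ≠ 1 ∧
    i ∈ Subgroup.closure {x : Cfsg.PSU 4 Nine 3 | x * zc = zc * x ∧ Odd (orderOf x)} ∧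
    t ∈ ⁅Subgroup.centralizer ({t} : Set (Cfsg.PSU 4 Nine 3)),
      Subgroup.centralizer ({t} : Set (Cfsg.PSU 4 Nine 3))⁆ := by
  obtain ⟨zz, tt, pp, qq, ii, tz, iz, it, pz, qz, pq, gt, kt, gk, nz, nt, ni⟩ := relations
  set Z := el zM z_ok
  set T := el tM t_ok
  set P := el pM p_ok
  set Q := el qM q_ok
  set I := el iM i_ok
  set G := el gM g_ok
  set K := el kM k_ok
  set J := el jM j_ok
  have ext : ∀ {a b : Cfsg.SU 4 Nine 3},
      ((a : Matrix.SpecialLinearGroup (Fin 4) Nine) : Matrix (Fin 4) (Fin 4) Nine) =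
        ((b : Matrix.SpecialLinearGroup (Fin 4) Nine) : Matrix (Fin 4) (Fin 4) Nine) → a = b :=
    fun h => Subtype.ext (Subtype.ext h)
  let π : Cfsg.SU 4 Nine 3 →* Cfsg.PSU 4 Nine 3 := QuotientGroup.mk' _
  have ne_one : ∀ a : Cfsg.SU 4 Nine 3, a * J ≠ J * a → π a ≠ 1 := fun a ha h => ha
    (Subgroup.mem_center_iff.1 ((QuotientGroup.eq_one_iff a).1 h) J).symm
  have hJ : ∀ {a : Cfsg.SU 4 Nine 3} {A : Matrix (Fin 4) (Fin 4) Nine},
      ((a : Matrix.SpecialLinearGroup (Fin 4) Nine) : Matrix (Fin 4) (Fin 4) Nine) = A →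
      A * jM ≠ jM * A → a * J ≠ J * a := fun {a A} e hn h => hn (by
    rw [← e]
    exact congrArg (fun x : Cfsg.SU 4 Nine 3 =>
      ((x : Matrix.SpecialLinearGroup (Fin 4) Nine) : Matrix (Fin 4) (Fin 4) Nine)) h)
  have : Fact (Nat.Prime 2) := ⟨Nat.prime_two⟩
  have p3 : π P ^ 3 = 1 := by
    rw [← map_pow, pow_succ, pow_two]; exact (congrArg π (ext (a := P * P * P) (b := 1) pp)).trans (map_one π)
  have q3 : π Q ^ 3 = 1 := by
    rw [← map_pow, pow_succ, pow_two]; exact (congrArg π (ext (a := Q * Q * Q) (b := 1) qq)).trans (map_one π)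
  have odd : ∀ x : Cfsg.PSU 4 Nine 3, x ^ 3 = 1 → Odd (orderOf x) := fun x hx =>
    (by decide : Odd 3).of_dvd_nat (orderOf_dvd_of_pow_eq_one hx)
  have comm : ∀ {A B : Cfsg.SU 4 Nine 3}, A * B = B * A → π A * π B = π B * π A := fun h => by
    rw [← map_mul, ← map_mul, h]
  refine ⟨π Z, π T, π I, orderOf_eq_prime ?_ (ne_one Z (hJ rfl nz)), ?_, ne_one T (hJ rfl nt),
    comm (ext tz), comm (ext iz), comm (ext it), ?_, ?_, ?_, ?_⟩
  · rw [← map_pow, pow_two]; exact (congrArg π (ext (a := Z * Z) (b := 1) zz)).trans (map_one π)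
  · rw [← map_pow, pow_succ, pow_two]
    exact (congrArg π (ext (a := T * T * T) (b := 1) tt)).trans (map_one π)
  · rw [← map_pow, show I ^ 4 = I * I * (I * I) by simp only [pow_succ, pow_zero, one_mul, mul_assoc]]
    exact (congrArg π (ext (a := I * I * (I * I)) (b := 1) ii)).trans (map_one π)
  · rw [← map_pow, pow_two]
    exact ne_one _ (hJ rfl ni)
  · have e : π I = π P * π Q := by
      rw [← map_mul]; exact congrArg π (ext (a := I) (b := P * Q) pq.symm)
    rw [e]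
    exact mul_mem (Subgroup.subset_closure ⟨comm (ext pz), odd _ p3⟩)
      (Subgroup.subset_closure ⟨comm (ext qz), odd _ q3⟩)
  · have e : G * K = T * K * G := ext gk
    have hG : π G ∈ Subgroup.centralizer ({π T} : Set (Cfsg.PSU 4 Nine 3)) :=
      Subgroup.mem_centralizer_singleton_iff.2 (comm (ext gt))
    have hK : π K ∈ Subgroup.centralizer ({π T} : Set (Cfsg.PSU 4 Nine 3)) :=
      Subgroup.mem_centralizer_singleton_iff.2 (comm (ext kt))
    have h := Subgroup.commutator_mem_commutator hG hK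
    rwa [← map_commutatorElement, show ⁅G, K⁆ = T by rw [commutatorElement_def, e]; group] at h

end PsuRootModel

theorem psu_root {K : Type} [Field K] [Fintype K] (hK : Fintype.card K = 9) :
    ∃ zc t i : Cfsg.PSU 4 K 3, orderOf zc = 2 ∧ t ^ 3 = 1 ∧ t ≠ 1 ∧ t * zc = zc * t ∧ i * zc = zc * i ∧
      i * t = t * i ∧ i ^ 4 = 1 ∧ i ^ 2 ≠ 1 ∧
      i ∈ Subgroup.closure {x : Cfsg.PSU 4 K 3 | x * zc = zc * x ∧ Odd (orderOf x)} ∧
      t ∈ ⁅Subgroup.centralizer ({t} : Set (Cfsg.PSU 4 K 3)), Subgroup.centralizer ({t} : Set (Cfsg.PSU 4 K 3))⁆ := by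
  obtain ⟨e⟩ := psu_field_equiv (n := 4) (q := 3)
    (FiniteField.ringEquivOfCardEq (by rw [hK, Nine.card]; rfl) : Nine ≃+* K)
  obtain ⟨zc, t, i, hz, ht3, ht1, htz, hiz, hit, hi4, hi2, hcl, hder⟩ := PsuRootModel.model
  refine ⟨e zc, e t, e i, by rw [MulEquiv.orderOf_eq, hz], by rw [← map_pow, ht3, map_one],
    fun h => ht1 (e.injective (h.trans (map_one e).symm)), by rw [← map_mul, htz, map_mul],
    by rw [← map_mul, hiz, map_mul], by rw [← map_mul, hit, map_mul], by rw [← map_pow, hi4, map_one],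
    fun h => hi2 (e.injective ((map_pow e i 2).trans (h.trans (map_one e).symm))), ?_, ?_⟩
  · have hle : Subgroup.closure {x | x * zc = zc * x ∧ Odd (orderOf x)} ≤
        (Subgroup.closure {x : Cfsg.PSU 4 K 3 | x * e zc = e zc * x ∧ Odd (orderOf x)}).comap e.toMonoidHom := by
      rw [Subgroup.closure_le]
      rintro x ⟨hx, ho⟩
      refine Subgroup.subset_closure ⟨?_, ?_⟩
      · show e x * e zc = e zc * e x
        rw [← map_mul, hx, map_mul]
      · show Odd (orderOf (e x))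
        rwa [MulEquiv.orderOf_eq]
    exact hle hcl
  · have h := Subgroup.mem_map_of_mem e.toMonoidHom hder
    rw [Subgroup.map_commutator] at h
    have hle : (Subgroup.centralizer ({t} : Set (Cfsg.PSU 4 Nine 3))).map e.toMonoidHom ≤
        Subgroup.centralizer ({e t} : Set (Cfsg.PSU 4 K 3)) := by
      rintro _ ⟨x, hx, rfl⟩
      rw [SetLike.mem_coe, Subgroup.mem_centralizer_singleton_iff] at hx
      rw [Subgroup.mem_centralizer_singleton_iff]
      show e x * e t = e t * e x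
      rw [← map_mul, hx, map_mul]
    exact Subgroup.commutator_mono hle hle h

end Cfsg.Agent.SuzukiThree
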