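import Cfsg.Agent.Lib.SuzukiThree.Main
import Cfsg.Agent.Lib.SuzukiThree.Entry
import Cfsg.Agent.Lib.SuzukiThree.PsuRoot

/-!
The centralizer of the element of order three, from the recognition of the unitary group.
-/

set_option autoImplicit false
set_option maxRecDepth 8000
set_option synthInstance.maxSize 4096

namespace Cfsg.Agent.SuzukiThree

open Subgroup Cfsg.Agent.LargeExtra Cfsg.Agent.SuzukiType

universe u

/-- The recognition needed. -/
def Recognition (K : Type) [Field K] [Fintype K] : Prop :=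
  ∀ (X : Type u) [Group X] [Finite X] (zb : X), UType X zb →
    Nonempty (X ≃* Cfsg.PSU 4 K 3) ∧ ∀ x y : X, orderOf x = 2 → orderOf y = 2 → IsConj x y

theorem centralizer_three {G : Type u} [Group G] [Finite G] (z : G) (hz : orderOf z = 2)
    (Q : Subgroup (Subgroup.centralizer ({z} : Set G))) [Q.Normal]
    (hF : Cfsg.generalizedFittingSubgroup (Subgroup.centralizer ({z} : Set G)) = Q)
    (hQ : Cfsg.IsExtraspecial 2 Q) (hcard : Nat.card Q = 2 ^ 7)
    (e : (Subgroup.centralizer ({z} : Set G)) ⧸ Q ≃* Cfsg.Omega (ZMod 2) (Cfsg.quadFormMinus 2 (ZMod 2) 1 1))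
    (hnwc : ∃ g : G, (∃ hq : g * z * g⁻¹ ∈ Subgroup.centralizer ({z} : Set G),
      (⟨g * z * g⁻¹, hq⟩ : Subgroup.centralizer ({z} : Set G)) ∈ Q) ∧ g * z * g⁻¹ ≠ z)
    (Y : Subgroup (Subgroup.centralizer ({z} : Set G))) (hY : Nat.card Y = 3) (hQY : Nat.card ↥⁅Q, Y⁆ = 8)
    (hQYna : ¬ IsMulCommutative ↥⁅Q, Y⁆)
    [((Y.map (Subgroup.subtype (Subgroup.centralizer ({z} : Set G)))).subgroupOf
      (Subgroup.centralizer ((Y.map (Subgroup.subtype (Subgroup.centralizer ({z} : Set G)))) : Set G))).Normal]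
    (K : Type) [Field K] [Fintype K] (hK : Fintype.card K = 9) (hrec : Recognition.{u} K) :
    Cfsg.IsQuasisimple ↥(Subgroup.centralizer ((Y.map (Subgroup.subtype (Subgroup.centralizer ({z} : Set G)))) : Set G)) ∧
      Nonempty (↥(Subgroup.centralizer ((Y.map (Subgroup.subtype (Subgroup.centralizer ({z} : Set G)))) : Set G)) ⧸
        (Y.map (Subgroup.subtype (Subgroup.centralizer ({z} : Set G)))).subgroupOf
          (Subgroup.centralizer ((Y.map (Subgroup.subtype (Subgroup.centralizer ({z} : Set G)))) : Set G)) ≃*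
        Cfsg.PSU 4 K 3) ∧
      (Subgroup.centralizer ((Y.map (Subgroup.subtype (Subgroup.centralizer ({z} : Set G)))) : Set G)).relIndex
        (Subgroup.normalizer ((Y.map (Subgroup.subtype (Subgroup.centralizer ({z} : Set G)))) : Set G)) = 2 := by
  obtain ⟨y, a, Q1, hy, ⟨D⟩⟩ := exists_data z hz Q hF hQ hcard e hnwc Y hY hQY hQYna
  haveI : IsSimpleGroup (Cfsg.PSU 4 K 3) :=
    Cfsg.Agent.Classical.Unitary.isSimpleGroup_PSU (q := 3) (by rw [hK]; norm_num) (by norm_num) (by norm_num)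
  refine D.conclusion _ _ ?_ hy (psu_root hK) fun zb hzb => hrec _ zb hzb
  rw [hy, zpowers_eq_closure, centralizer_closure]

end Cfsg.Agent.SuzukiThree
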