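import Cfsg.Agent.Lib.SuzukiThree.Parts

/-!
Fusion of the central involution inside the centralizer of the element of order three.
-/

set_option autoImplicit false
set_option maxRecDepth 8000
set_option synthInstance.maxSize 4096

namespace Cfsg.Agent.SuzukiThree

open Subgroup Cfsg.Agent.LargeExtra Cfsg.Agent.OctadInv.Orbits Cfsg.Agent.SuzukiType

/-- The stabilizer of `e1` in `Ω`. -/
noncomputable def stabE : Subgroup O6 where
  carrier := {A | A ∈ Cfsg.Omega (ZMod 2) ⇑F6 ∧ act A e1 = e1}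
  one_mem' := ⟨one_mem _, act_one _⟩
  mul_mem' := fun {A B} hA hB => ⟨mul_mem hA.1 hB.1, by rw [act_mul, hB.2, hA.2]⟩
  inv_mem' := fun {A} hA => ⟨inv_mem hA.1, by conv_lhs => rw [← hA.2]
                                              exact act_inv_self _ _⟩

theorem card_stabE : Nat.card ↥stabE = 960 := by
  classical
  let Om := Cfsg.Omega (ZMod 2) ⇑F6
  let T : Subgroup ↥Om := stabE.subgroupOf Om
  have hfib : ∀ A B : ↥Om, A⁻¹ * B ∈ T ↔ act (A : O6) e1 = act (B : O6) e1 := by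
    intro A B
    rw [Subgroup.mem_subgroupOf]
    show (_ ∧ _) ↔ _
    rw [and_iff_right (A⁻¹ * B : ↥Om).2, Subgroup.coe_mul, Subgroup.coe_inv, act_mul]
    refine ⟨fun e => ?_, fun e => by rw [← e, act_inv_self]⟩
    calc act (A : O6) e1 = act (A : O6) (act (A : O6)⁻¹ (act (B : O6) e1)) := by rw [e]
      _ = _ := by rw [← act_mul, mul_inv_cancel, act_one]
  let f : ↥Om ⧸ T → {v : V // v ≠ 0 ∧ qf v = 0} := fun c =>
    Quotient.liftOn' c (fun A => ⟨act (A : O6) e1, fun e => absurd (show e1 = 0 by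
      rw [← act_inv_self (A : O6) e1, e, act_zero]) (by decide), by rw [act_qf]; decide⟩)
      fun A B h => Subtype.ext ((hfib A B).1 (QuotientGroup.leftRel_apply.1 h))
  have hf : Function.Bijective f := by
    constructor
    · intro c d
      refine Quotient.inductionOn₂' c d fun A B e => ?_
      exact Quotient.sound' (QuotientGroup.leftRel_apply.2 ((hfib A B).2 (congrArg Subtype.val e)))
    · rintro ⟨v, hv0, hvq⟩
      obtain ⟨A, hA, hAv⟩ := exists_to_e1 hv0 hvq
      refine ⟨Quotient.mk'' ⟨A⁻¹, inv_mem hA⟩, Subtype.ext ?_⟩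
      show act A⁻¹ e1 = v
      rw [← hAv, act_inv_self]
  have h1 : T.index = 27 := by
    rw [Subgroup.index, Nat.card_eq_of_bijective f hf, Nat.card_eq_fintype_card, card_sing]
  have h2 := T.card_mul_index
  rw [h1, card_omega, Nat.card_congr (Subgroup.subgroupOfEquivOfLe (H := stabE) (K := Om) fun A hA => hA.1).toEquiv] at h2
  omega

/-- Elements of order three fixing `e1` generate conjugate subgroups. -/
theorem conj_in_stab {A B : O6} (hA : A ∈ stabE) (hB : B ∈ stabE) (hA3 : orderOf A = 3) (hB3 : orderOf B = 3) :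
    ∃ C ∈ stabE, C * A * C⁻¹ = B ∨ C * A * C⁻¹ = B⁻¹ := by
  classical
  haveI : Fact (Nat.Prime 3) := ⟨Nat.prime_three⟩
  have hf : (Nat.card ↥stabE).factorization 3 = 1 := by
    rw [card_stabE, show (960 : ℕ) = 3 * 320 by norm_num, Nat.factorization_mul (by norm_num) (by norm_num)]
    simp [Nat.factorization_eq_zero_of_not_dvd, Nat.prime_three.factorization_self]
  have hc : ∀ {X : ↥stabE}, orderOf (X : O6) = 3 →
      Nat.card ↥(zpowers X) = 3 ^ (Nat.card ↥stabE).factorization 3 := fun {X} hX => by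
    rw [Nat.card_zpowers, ← Subgroup.orderOf_coe, hX, hf, pow_one]
  let P := Sylow.ofCard (zpowers (⟨A, hA⟩ : ↥stabE)) (hc hA3)
  let R := Sylow.ofCard (zpowers (⟨B, hB⟩ : ↥stabE)) (hc hB3)
  obtain ⟨g, hg⟩ := MulAction.exists_smul_eq ↥stabE P R
  have hmem : MulAut.conj g ⟨A, hA⟩ ∈ zpowers (⟨B, hB⟩ : ↥stabE) := by
    have h1 : MulAut.conj g ⟨A, hA⟩ ∈ ((g • P : Sylow 3 ↥stabE) : Subgroup ↥stabE) := by
      rw [Sylow.coe_subgroup_smul]
      exact Subgroup.smul_mem_pointwise_smul _ (MulAut.conj g) _ (mem_zpowers _)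
    rw [hg] at h1
    exact h1
  obtain ⟨n, hn⟩ := Subgroup.mem_zpowers_iff.1 hmem
  have hn' : (B : O6) ^ n = (g : O6) * A * (g : O6)⁻¹ := by
    have := congrArg Subtype.val hn
    simpa [MulAut.conj_apply] using this
  refine ⟨g, g.2, ?_⟩
  rw [← hn']
  have h3 : B ^ (3 : ℤ) = 1 := by
    rw [show ((3 : ℤ)) = ((orderOf B : ℕ) : ℤ) by rw [hB3]; rfl, zpow_natCast, pow_orderOf_eq_one]
  rw [zpow_eq_zpow_emod n (show B ^ (3 : ℤ) = 1 from h3)]
  rcases (by omega : n % 3 = 0 ∨ n % 3 = 1 ∨ n % 3 = 2) with e | e | e <;> rw [e]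
  · exfalso
    rw [zpow_eq_zpow_emod n h3, e, zpow_zero] at hn'
    rw [eq_comm, conj_eq_one_iff] at hn'
    rw [hn', orderOf_one] at hA3
    norm_num at hA3
  · exact Or.inl (zpow_one B)
  · right
    rw [eq_inv_iff_mul_eq_one, show B ^ (2 : ℤ) * B = B ^ (2 : ℤ) * B ^ (1 : ℤ) by rw [zpow_one], ← zpow_add]
    exact h3

namespace Su

variable {G : Type*} [Group G] [Finite G] {Q Q' : Subgroup G} {z a y : G} (D : Su Q Q' z a y)
include D

theorem orderOf_o1 : orderOf o1 = 3 := by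
  haveI : Fact (Nat.Prime 3) := ⟨Nat.prime_three⟩
  refine orderOf_eq_prime o_pow_four.2.2.1 fun e => ?_
  have := (o_act w0).1
  rw [e, act_one] at this
  revert this
  decide

/-- `z` is moved to `a` inside `C(y)`. -/
theorem exists_fuse : ∃ g, g * y = y * g ∧ g * z * g⁻¹ = a := by
  obtain ⟨q, hq, hqv⟩ := D.S.exists_q
  obtain ⟨n, hn, hnz⟩ := D.S.exists_n
  obtain ⟨huz, hua, -⟩ := D.S.swap_conj hq hqv hn hnz (k := 1) Q.one_mem (by rw [D.S.F.vec_one]; rfl)
  generalize q * n * q = u at huz hua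
  set y' := u * y * u⁻¹ with hy'
  have hy'z : y' * z = z * y' := by
    rw [hy', ← hua]
    calc u * y * u⁻¹ * (u * a * u⁻¹) = u * (y * a) * u⁻¹ := by group
      _ = _ := by rw [D.ya]; group
  have hy'a : y' * a = a * y' := by
    rw [hy', ← huz]
    calc u * y * u⁻¹ * (u * z * u⁻¹) = u * (y * z) * u⁻¹ := by group
      _ = _ := by rw [D.yz]; group
  have hy'3 : y' ^ 3 = 1 := by rw [hy', conj_pow, D.y3, mul_one, mul_inv_cancel]
  have hy'1 : y' ≠ 1 := fun e => D.y_ne (conj_eq_one_iff.1 e)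
  have hst : ∀ {g : G}, g * z = z * g → g * a = a * g → D.S.act' g ∈ stabE := fun {g} hgz hga =>
    ⟨D.S.act'_omega g, by rw [← D.S.F.vec_a, ← D.S.vec_conj hgz D.S.mem_a, hga, mul_inv_cancel_right]⟩
  have h3' : orderOf (D.S.act' y') = 3 := by
    haveI : Fact (Nat.Prime 3) := ⟨Nat.prime_three⟩
    refine orderOf_eq_prime (by rw [← D.act'_pow hy'z, hy'3, D.S.act'_q Q.one_mem]) fun e => hy'1 ?_
    have hQ := (D.S.act'_one_iff hy'z).1 e
    have h4 := D.q_pow_four hQ
    rw [pow_succ, hy'3, one_mul] at h4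
    exact h4
  obtain ⟨C, hC, hCy⟩ := conj_in_stab (hst hy'z hy'a) (hst D.yz D.ya) h3' (by rw [D.act_eq_o1]; exact D.orderOf_o1)
  obtain ⟨c0, hc0z, hc0a, hc0C⟩ := D.S.exists_fix hC.1 hC.2
  have hW : ∀ {g : G}, g * a = a * g → g ∈ centralizer ({a} : Set G) := fun h =>
    mem_centralizer_singleton_iff.2 h
  have key : ∀ b' : G, b' ^ 3 = 1 → b' * z = z * b' → b' * a = a * b' →
      C * D.S.act' y' * C⁻¹ = D.S.act' b' →
      ∃ c, c * z = z * c ∧ c * a = a * c ∧ c * y' * c⁻¹ = b' := fun b' h1 h2 h3 h4 => by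
    obtain ⟨c, e1, e2, -, e4⟩ := D.exists_lift (centralizer ({a} : Set G)) hy'3 hy'z (hW hy'a) h1 h2 (hW h3)
      hc0z (hW hc0a) hc0C h4
    exact ⟨c, e1, mem_centralizer_singleton_iff.1 e2, e4⟩
  have hfin : ∀ c, c * z = z * c → c * a = a * c → c * y' * c⁻¹ = y →
      ∃ g, g * y = y * g ∧ g * z * g⁻¹ = a := fun c hcz hca hcy => by
    refine ⟨c * u, ?_, ?_⟩
    · calc c * u * y = c * y' * c⁻¹ * (c * u) := by rw [hy']; group
        _ = _ := by rw [hcy]
    · calc c * u * z * (c * u)⁻¹ = c * (u * z * u⁻¹) * c⁻¹ := by group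
        _ = a := by rw [huz, hca, mul_inv_cancel_right]
  rcases hCy with e | e
  · obtain ⟨c, h1, h2, h3⟩ := key y D.y3 D.yz D.ya e
    exact hfin c h1 h2 h3
  · obtain ⟨c, h1, h2, h3⟩ := key y⁻¹ (by rw [inv_pow, D.y3, inv_one]) (inv_z D.yz)
      (inv_z (z := a) D.ya) (by rw [D.S.act'_inv D.yz]; exact e)
    obtain ⟨k, hkz, hka, -, hky⟩ := D.exists_inv
    refine hfin (k * c) (SuzukiType.mul_z hkz h1) (SuzukiType.mul_z (z := a) hka h2) ?_
    calc k * c * y' * (k * c)⁻¹ = k * (c * y' * c⁻¹) * k⁻¹ := by group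
      _ = (k * y * k⁻¹)⁻¹ := by rw [h3]; group
      _ = y := by rw [hky, inv_inv]

/-- The normalizer of `⟨y⟩` has index two over the centralizer. -/
theorem relIndex_two :
    (centralizer ({y} : Set G)).relIndex (normalizer (zpowers y : Set G)) = 2 := by
  obtain ⟨k, -, -, -, hky⟩ := D.exists_inv
  have hy2 : y * y = y⁻¹ := eq_inv_of_mul_eq_one_left (by rw [← D.y3, pow_succ, pow_two])
  have hyy : y⁻¹ ≠ y := fun e => D.y_ne (by
    have h1 : y * y = 1 := by conv_lhs => arg 1; rw [← e]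
                              exact inv_mul_cancel y
    rw [hy2] at h1
    exact inv_eq_one.1 h1)
  have hcases : ∀ n ∈ normalizer (zpowers y : Set G), n * y * n⁻¹ = y ∨ n * y * n⁻¹ = y⁻¹ := by
    intro n hn
    obtain ⟨j, hj⟩ := Subgroup.mem_zpowers_iff.1 ((mem_normalizer_iff.1 hn y).1 (mem_zpowers y))
    have h3 : y ^ (3 : ℤ) = 1 := by rw [show (3 : ℤ) = ((3 : ℕ) : ℤ) from rfl, zpow_natCast, D.y3]
    rw [zpow_eq_zpow_emod j h3] at hj
    rw [← hj]
    rcases (by omega : j % 3 = 0 ∨ j % 3 = 1 ∨ j % 3 = 2) with e | e | e <;> rw [e] at hj ⊢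
    · rw [zpow_zero] at hj
      exact absurd (conj_eq_one_iff.1 hj.symm) D.y_ne
    · exact Or.inl (zpow_one y)
    · exact Or.inr (by rw [zpow_two, hy2])
  have hkN : k ∈ normalizer (zpowers y : Set G) := by
    have hmap : (zpowers y).map (MulAut.conj k).toMonoidHom = zpowers y := by
      rw [MonoidHom.map_zpowers]
      show zpowers (k * y * k⁻¹) = _
      rw [hky, zpowers_inv]
    refine mem_normalizer_iff.2 fun g => ?_
    conv_rhs => rw [← hmap]
    exact (Subgroup.mem_map_iff_mem (MulAut.conj k).injective).symm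
  rw [relIndex]
  have hmem : ∀ n : ↥(normalizer (zpowers y : Set G)),
      n ∈ (centralizer ({y} : Set G)).subgroupOf (normalizer (zpowers y : Set G)) ↔ (n : G) * y * (n : G)⁻¹ = y := fun n => by
    rw [mem_subgroupOf, mem_centralizer_singleton_iff, mul_inv_eq_iff_eq_mul]
  refine index_eq_two_iff_exists_notMem_and.2 ⟨⟨k, hkN⟩, ?_, fun b => ?_⟩
  · rw [hmem]
    show k * y * k⁻¹ ≠ y
    rw [hky]
    exact hyy
  · rw [hmem, hmem, Subgroup.coe_mul]
    show (b : G) * k * y * ((b : G) * k)⁻¹ = y ∨ _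
    rcases hcases b b.2 with e | e
    · exact Or.inr e
    · left
      calc (b : G) * k * y * ((b : G) * k)⁻¹ = (b : G) * (k * y * k⁻¹) * (b : G)⁻¹ := by group
        _ = ((b : G) * y * (b : G)⁻¹)⁻¹ := by rw [hky]; group
        _ = y := by rw [e, inv_inv]

/-- Conjugates of `z` in `Q ∩ C(y)` meet it in a four-group. -/
theorem inter_four {g : G} (hgy : g * y = y * g) (hgQ : g * z * g⁻¹ ∈ Q) (hgz : g * z * g⁻¹ ≠ z) :
    Nat.card ↥((Q ⊓ centralizer ({y} : Set G)) ⊓
      (Q ⊓ centralizer ({y} : Set G)).map (MulAut.conj g).toMonoidHom) = 4 := by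
  classical
  set b := g * z * g⁻¹ with hb
  have P := (Pair.mk' D.h hgQ hgz).two (by rw [D.card]; norm_num)
  rw [← hb] at P
  have hbb : b * b = 1 := P.p.h'.zz
  have hv : D.S.F.vec b ≠ 0 := fun e => (D.S.F.vec_cases hgQ e).elim P.p.h'.ne_one hgz
  have hqv : qf (D.S.F.vec b) = 0 := by
    have h0 := D.S.F.sq hgQ
    rw [hbb] at h0
    exact (zp_eq_one_iff D.h.ne_one).1 h0.symm
  obtain ⟨B, hB, hBv⟩ := exists_to_e1 hv hqv
  let S1 : St Q _ z b := ⟨P, moveFrame D.S.F B hB b hBv⟩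
  have hby : b * y = y * b := by
    rw [hb]
    have h1 : g⁻¹ * y = y * g⁻¹ := by rw [inv_mul_eq_iff_eq_mul, ← mul_assoc, hgy, mul_inv_cancel_right]
    calc g * z * g⁻¹ * y = g * (z * y) * g⁻¹ := by rw [mul_assoc, h1]; group
      _ = g * (y * z) * g⁻¹ := by rw [D.yz]
      _ = _ := by rw [← mul_assoc g y z, hgy]; group
  let f : ZMod 2 × ZMod 2 → ↥((Q ⊓ centralizer ({y} : Set G)) ⊓
      (Q ⊓ centralizer ({y} : Set G)).map (MulAut.conj g).toMonoidHom) := fun p =>
    ⟨zp z p.1 * zp b p.2, ⟨Q.mul_mem (Q.pow_mem D.h.z_mem _) (Q.pow_mem hgQ _),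
      mem_centralizer_singleton_iff.2 (SuzukiType.mul_z (z := y) ((show Commute z y from D.yz.symm).pow_left _).eq
        ((show Commute b y from hby).pow_left _).eq)⟩, by
      refine mem_map_equiv.2 ?_
      rw [MulAut.conj_symm_apply]
      have hz' : z ∈ Q.map (MulAut.conj g).toMonoidHom := P.p.z_mem' (by rw [D.card]; norm_num)
      rw [mem_map_equiv, MulAut.conj_symm_apply] at hz'
      have hcz : g⁻¹ * z * g ∈ centralizer ({y} : Set G) := by
        have hg' : g ∈ centralizer ({y} : Set G) := mem_centralizer_singleton_iff.2 hgy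
        exact mul_mem (mul_mem (inv_mem hg') (mem_centralizer_singleton_iff.2 D.yz.symm)) hg'
      have e : g⁻¹ * (zp z p.1 * zp b p.2) * g = (g⁻¹ * z * g) ^ p.1.val * zp z p.2 := by
        have e1 : (g⁻¹ * z * g) ^ p.1.val = g⁻¹ * zp z p.1 * g := by
          have := conj_pow (i := p.1.val) (a := g⁻¹) (b := z)
          rw [inv_inv] at this
          exact this
        have e2 : zp b p.2 = g * zp z p.2 * g⁻¹ := by rw [zp, zp, hb, conj_pow]
        rw [e1, e2]; group
      rw [e]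
      exact mul_mem (pow_mem (show g⁻¹ * z * g ∈ Q ⊓ centralizer ({y} : Set G) from ⟨hz', hcz⟩) _)
        (pow_mem (show z ∈ Q ⊓ centralizer ({y} : Set G) from ⟨D.h.z_mem, mem_centralizer_singleton_iff.2 D.yz.symm⟩) _)⟩
  have hf : Function.Bijective f := by
    constructor
    · rintro ⟨s, t⟩ ⟨s', t'⟩ e
      have e0 : zp z s * zp b t = zp z s' * zp b t' := congrArg Subtype.val e
      rcases z2 s with rfl | rfl <;> rcases z2 t with rfl | rfl <;> rcases z2 s' with rfl | rfl <;>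
        rcases z2 t' with rfl | rfl <;> simp only [zp_zero, zp_one, one_mul, mul_one] at e0 <;>
        first
          | rfl
          | exact absurd e0 P.p.h'.ne_one | exact absurd e0.symm P.p.h'.ne_one
          | exact absurd e0 D.h.ne_one | exact absurd e0.symm D.h.ne_one
          | exact absurd e0 hgz | exact absurd e0.symm hgz
          | exact absurd e0 P.p.za_ne_one | exact absurd e0.symm P.p.za_ne_one
          | exact absurd e0 P.p.za_ne_a | exact absurd e0.symm P.p.za_ne_a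
          | exact absurd e0 P.p.za_ne_z | exact absurd e0.symm P.p.za_ne_z
    · rintro ⟨x, ⟨hxQ, hxy⟩, hx'⟩
      obtain ⟨x', hx'', hxe⟩ := hx'
      obtain ⟨s, t, e⟩ := S1.inf_four (x := x) hxQ ⟨x', hx''.1, hxe⟩
      exact ⟨(s, t), Subtype.ext e.symm⟩
  rw [← Nat.card_eq_of_bijective f hf, Nat.card_prod, Nat.card_zmod]

end Su

end Cfsg.Agent.SuzukiThree
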