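import Cfsg.Agent.Lib.SuzukiType.Geometry

/-!
The centralizer of a rotation of an elliptic line in the six-dimensional space of minus type over the
field with two elements: finite checks.
-/

set_option autoImplicit false
set_option maxRecDepth 20000
set_option synthInstance.maxSize 4096

namespace Cfsg.Agent.SuzukiThree

open Cfsg.Agent.SuzukiType

/-- The product of two reflections. -/
def rot (r s v : V) : V := R r (R s v)

def u1 : V := mk 1 1 0 0 0 0
def u2 : V := mk 1 0 1 1 0 0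
def u3 : V := mk 1 1 1 0 0 0
def u4 : V := mk 1 1 0 1 0 0

/-- The rotation of the line of `k0, w0`. -/
def tau (v : V) : V := rot k0 w0 v
/-- The two rotations on the orthogonal space. -/
def tau2 (v : V) : V := rot u1 u2 v
def tau3 (v : V) : V := rot u3 u4 v
/-- Inverts both. -/
def sig (v : V) : V := rot u1 u3 v
/-- Exchanges both. -/
def swp (v : V) : V := T h1 v

/-- An element of the centralizer of `tau` fixing the line of `k0, w0`. -/
def L (i j : Fin 3) (k l : Fin 2) (v : V) : V :=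
  tau2^[i] (tau3^[j] (sig^[k] (swp^[l] v)))

/-- Orthogonal to the line of `k0, w0`. -/
abbrev InX (v : V) : Prop := za v = 0 ∧ zb v = 0

theorem planes : qf u1 = 1 ∧ qf u2 = 1 ∧ qf u3 = 1 ∧ qf u4 = 1 ∧ bf u1 u2 = 1 ∧ bf u3 u4 = 1 ∧
    bf u1 u3 = 0 ∧ bf u1 u4 = 0 ∧ bf u2 u3 = 0 ∧ bf u2 u4 = 0 ∧
    InX u1 ∧ InX u2 ∧ InX u3 ∧ InX u4 ∧ InX e1 ∧ InX f1 ∧ InX h1 ∧ InX h2 := by decide

/-- The inversion of `tau` fixing `e1`. -/
def inv' (v : V) : V := rot k0 (h1 + h2) v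

/-- Carries `tau` to `tau2`. -/
def move (v : V) : V :=
  rot w0 (mk 0 0 0 1 1 0) (rot (mk 0 1 1 0 0 1) (mk 1 0 1 0 1 1) v)

theorem aux_vectors : qf k0 = 1 ∧ qf w0 = 1 ∧ bf w0 k0 = 1 ∧ qf (h1 + h2) = 1 ∧ qf (mk 0 0 0 1 1 0) = 1 ∧
    qf (mk 0 1 1 0 0 1) = 1 ∧ qf (mk 1 0 1 0 1 1) = 1 ∧ bf k0 e1 = 0 ∧ bf w0 e1 = 0 ∧
    inv' e1 = e1 := by decide

theorem inv_spec : ∀ v : V, inv' (tau v) = tau (tau (inv' v)) ∧ inv' (tau2 v) = tau2 (inv' v) ∧
    inv' (tau3 v) = tau3 (tau3 (inv' v)) := by decide +kernel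

theorem move_spec : ∀ v : V, move (tau v) = tau2 (move v) := by decide +kernel

theorem tau_fix : ∀ v : V, tau v = v ↔ InX v := by decide +kernel

theorem tau_image : ∀ v : V, x1 (tau v + v) = 0 ∧ y1 (tau v + v) = 0 ∧ x2 (tau v + v) = 0 ∧
    y2 (tau v + v) = 0 := by decide +kernel

theorem tau_three : ∀ v : V, tau (tau (tau v)) = v ∧ tau2 (tau2 (tau2 v)) = v ∧
    tau3 (tau3 (tau3 v)) = v ∧ sig (sig v) = v ∧ swp (swp v) = v := by decide +kernel

theorem commutes : ∀ v : V, tau (tau2 v) = tau2 (tau v) ∧ tau (tau3 v) = tau3 (tau v) ∧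
    tau (sig v) = sig (tau v) ∧ tau (swp v) = swp (tau v) ∧ tau2 (tau3 v) = tau3 (tau2 v) ∧
    sig (tau2 v) = tau2 (tau2 (sig v)) ∧ sig (tau3 v) = tau3 (tau3 (sig v)) := by decide +kernel

/-- The exchange normalizes the rotations. -/
theorem swp_conj : (∀ v : V, swp (tau2 v) = tau3 (swp v)) ∨ ∀ v : V, swp (tau2 v) = tau3 (tau3 (swp v)) := by
  decide +kernel

/-- The images of the basis of the orthogonal space determine an element of the list, up to a reflection. -/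
theorem cover : ∀ a : V, InX a → a ≠ 0 → qf a = 0 → ∀ b : V, InX b → qf b = 0 → bf a b = 1 →
    ∀ c : V, InX c → c ≠ 0 → qf c = 0 → bf a c = 0 → bf b c = 0 →
    ∀ d : V, InX d → qf d = 0 → bf a d = 0 → bf b d = 0 → bf c d = 1 →
    ∃ i j k l, (L i j k l e1 = a ∧ L i j k l f1 = b ∧ L i j k l h1 = c ∧ L i j k l h2 = d) ∨
      (R u1 (L i j k l e1) = a ∧ R u1 (L i j k l f1) = b ∧ R u1 (L i j k l h1) = c ∧
        R u1 (L i j k l h2) = d) := by decide +kernel

/-- Only the rotations fix neither exchange nor inversion. -/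
theorem cent_rot : ∀ i j k l, (∀ v : V, L i j k l (tau2 v) = tau2 (L i j k l v)) →
    (∀ v : V, L i j k l (tau3 v) = tau3 (L i j k l v)) → k = 0 ∧ l = 0 := by decide +kernel

/-- The singular vector of the complement of an elliptic line. -/
theorem exists_sing : ∀ u : V, qf u = 1 → ∀ v : V, qf v = 1 → bf u v = 1 →
    ∃ w : V, qf w = 0 ∧ bf u w = 0 ∧ bf v w = 0 ∧ w ≠ 0 := by decide +kernel

/-- The fixed spaces of the rotations inside `X`. -/
theorem fixed_planes : ∀ v : V, InX v →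
    (tau3 v = v ↔ v = 0 ∨ v = u1 ∨ v = u2 ∨ v = u1 + u2) ∧
    (tau2 v = v ↔ v = 0 ∨ v = u3 ∨ v = u4 ∨ v = u3 + u4) := by decide +kernel

theorem rot_planes : tau2 u1 = u1 + u2 ∨ tau2 u1 = u2 := by decide

/-- Products of powers of the two rotations with few fixed points. -/
theorem fixed_pair : ∀ i j : Fin 3, i ≠ 0 → j ≠ 0 → ∀ v : V, InX v →
    tau2^[i] (tau3^[j] v) = v → v = 0 := by decide +kernel

/-- An element of the list trivial on `X`. -/
theorem L_trivial : ∀ i j k l, (∀ v : V, InX v → L i j k l v = v) → i = 0 ∧ j = 0 ∧ k = 0 ∧ l = 0 := by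
  decide +kernel

end Cfsg.Agent.SuzukiThree

namespace Cfsg.Agent.SuzukiThree

open Cfsg.Agent.SuzukiType

/-- Distinct parameters give distinct maps. -/
theorem L_inj : ∀ m m' : Fin 3, ∀ i j k l i' j' k' l',
    L i j k l e1 = L i' j' k' l' e1 → L i j k l f1 = L i' j' k' l' f1 → L i j k l h1 = L i' j' k' l' h1 →
    L i j k l h2 = L i' j' k' l' h2 → tau^[m] k0 = tau^[m'] k0 →
    m = m' ∧ i = i' ∧ j = j' ∧ k = k' ∧ l = l' := by decide +kernel

/-- The parts. -/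
theorem L_fix : (∀ i j k l, L i j k l k0 = k0 ∧ L i j k l w0 = w0 ∧ L i j k l 0 = 0) ∧
    (∀ v : V, InX v → tau v = v) ∧
    (∀ i j k l, InX (L i j k l e1) ∧ InX (L i j k l f1) ∧ InX (L i j k l h1) ∧ InX (L i j k l h2)) ∧
    R u1 k0 = k0 ∧ R u1 w0 = w0 := by decide +kernel

theorem k0_diff : tau w0 + w0 = k0 ∧ ∀ v : V, tau v + v = 0 ∨ tau v + v = k0 ∨ tau v + v = tau k0 ∨
    tau v + v = tau (tau k0) := by decide +kernel

theorem card_InX : Fintype.card {v : V // InX v} = 16 := by decide +kernel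

end Cfsg.Agent.SuzukiThree

namespace Cfsg.Agent.SuzukiThree

open Cfsg.Agent.SuzukiType

/-- Squares in the list are rotations. -/
theorem L_sq : ∀ i j k l, ∃ i' j' : Fin 3, ∀ v : V, L i j k l (L i j k l v) = tau2^[i'] (tau3^[j'] v) := by
  decide +kernel

/-- The coordinates of `X` in the two planes. -/
theorem span_planes : ∀ v : V, InX v → ∃ a b c d : ZMod 2,
    v = sm a u1 + sm b (tau2 u1) + (sm c u3 + sm d (tau3 u3)) := by decide +kernel

theorem plane_facts : tau2 (tau2 u1) = u1 + tau2 u1 ∧ tau3 (tau3 u3) = u3 + tau3 u3 ∧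
    bf u1 (tau2 u1) = 1 ∧ bf u3 (tau3 u3) = 1 ∧ tau2 u3 = u3 ∧ tau3 u1 = u1 ∧
    bf u1 u3 = 0 ∧ bf u1 (tau3 u3) = 0 ∧ bf (tau2 u1) u3 = 0 ∧ bf (tau2 u1) (tau3 u3) = 0 ∧
    InX (tau2 u1) ∧ InX (tau3 u3) ∧ tau2 (tau3 u3) = tau3 u3 ∧ tau3 (tau2 u1) = tau2 u1 := by decide

theorem card_sing : Fintype.card {v : V // v ≠ 0 ∧ qf v = 0} = 27 := by decide +kernel

theorem L_InX : ∀ i j k l, ∀ v : V, InX v → InX (L i j k l v) := by decide +kernel

theorem rot_X : tau2 k0 = k0 ∧ tau2 w0 = w0 ∧ (∀ v, InX v → InX (tau2 v)) ∧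
    tau3 k0 = k0 ∧ tau3 w0 = w0 ∧ ∀ v, InX v → InX (tau3 v) := by decide +kernel

end Cfsg.Agent.SuzukiThree
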