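import Cfsg.Agent.Lib.SuzukiThree.Frame

/-!
The centralizer in `C(z)` of the element of order three.
-/

set_option autoImplicit false
set_option maxRecDepth 8000
set_option synthInstance.maxSize 4096

namespace Cfsg.Agent.SuzukiThree

open Subgroup Cfsg.Agent.LargeExtra Cfsg.Agent.OctadInv.Orbits Cfsg.Agent.SuzukiType

variable {G : Type*} [Group G] [Finite G]

theorem act_pow (A : O6) (n : ℕ) (v : V) : act (A ^ n) v = (act A)^[n] v := by
  induction n generalizing v with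
  | zero => rw [pow_zero, act_one]; rfl
  | succ n ih => rw [pow_succ, act_mul, ih, Function.iterate_succ_apply]

theorem iterate_congr {f g : V → V} (h : ∀ v, f v = g v) (n : ℕ) (v : V) : f^[n] v = g^[n] v := by
  rw [funext h]

/-- A vector from its coordinates. -/
theorem expand (v : V) : v = sm (x1 v) e1 + sm (y1 v) f1 + sm (x2 v) h1 + sm (y2 v) h2 + sm (za v) k0 +
    sm (zb v) w0 := by
  rw [eq_iff_coord]
  simp [sm, e1, f1, h1, h2, k0, w0, SuzukiType.mk, x1, y1, x2, y2, za, zb]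

/-- Isometries agreeing on a basis agree. -/
theorem ext_basis {A B : O6} (he : act A e1 = act B e1) (hf : act A f1 = act B f1) (h : act A h1 = act B h1)
    (h' : act A h2 = act B h2) (hk : act A k0 = act B k0) (hw : act A w0 = act B w0) : A = B :=
  ext_act fun v => by
    rw [expand v]
    simp only [act_add, act_sm, he, hf, h, h', hk, hw]

noncomputable def o1 : O6 := rfl' k0 * rfl' w0
noncomputable def o2 : O6 := rfl' u1 * rfl' u2
noncomputable def o3 : O6 := rfl' u3 * rfl' u4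
noncomputable def os : O6 := rfl' u1 * rfl' u3
noncomputable def oi : O6 := rfl' k0 * rfl' (h1 + h2)
noncomputable def omove : O6 :=
  (rfl' w0 * rfl' (SuzukiType.mk 0 0 0 1 1 0)) * (rfl' (SuzukiType.mk 0 1 1 0 0 1) * rfl' (SuzukiType.mk 1 0 1 0 1 1))

theorem o_act (v : V) : act o1 v = tau v ∧ act o2 v = tau2 v ∧ act o3 v = tau3 v ∧ act os v = sig v ∧
    act oi v = inv' v ∧ act omove v = move v := by
  obtain ⟨p1, p2, p3, p4, -⟩ := planes
  obtain ⟨q1, q2, -, q3, q4, q5, q6, -⟩ := aux_vectors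
  refine ⟨act_rot q1 q2 v, act_rot p1 p2 v, act_rot p3 p4 v, act_rot p1 p3 v, act_rot q1 q3 v, ?_⟩
  rw [omove, act_mul, act_rot q5 q6, act_rot q2 q4]
  rfl

theorem o_mem : o1 ∈ Cfsg.Omega (ZMod 2) ⇑F6 ∧ o2 ∈ Cfsg.Omega (ZMod 2) ⇑F6 ∧
    o3 ∈ Cfsg.Omega (ZMod 2) ⇑F6 ∧ os ∈ Cfsg.Omega (ZMod 2) ⇑F6 ∧ oi ∈ Cfsg.Omega (ZMod 2) ⇑F6 ∧
    omove ∈ Cfsg.Omega (ZMod 2) ⇑F6 := by
  obtain ⟨p1, p2, p3, p4, -⟩ := planes
  obtain ⟨q1, q2, -, q3, q4, q5, q6, -⟩ := aux_vectors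
  exact ⟨pair_mem q1 q2, pair_mem p1 p2, pair_mem p3 p4, pair_mem p1 p3, pair_mem q1 q3,
    mul_mem (pair_mem q2 q4) (pair_mem q5 q6)⟩

namespace Su

variable {Q Q' : Subgroup G} {z a y : G} (D : Su Q Q' z a y)
include D

theorem h : Ctr Q z := D.S.h

theorem not_three : ¬ 3 ∣ Nat.card ↥Q := by rw [D.card]; norm_num

theorem act_eq_o1 : D.S.act' y = o1 := ext_act fun v => by rw [D.act_y, (o_act v).1]

theorem y_ne : y ≠ 1 := fun e => by
  have h1 := D.act_y w0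
  rw [D.S.act'_q (e ▸ Q.one_mem), act_one] at h1
  revert h1
  decide

/-- The fixed points in `Q`. -/
theorem comm_iff_InX {x : G} (hx : x ∈ Q) : y * x = x * y ↔ InX (D.S.F.vec x) := by
  rw [← tau_fix, ← D.act_y, ← D.S.vec_conj D.yz hx]
  constructor
  · intro e; rw [e, mul_inv_cancel_right]
  · exact fixed_comm D.h D.S.F D.y3 D.yz hx

/-- Conjugacy modulo the part of `Q` centralized by the given elements. -/
theorem conj_mod (W : Subgroup G) {b b' : G} (hb3 : b ^ 3 = 1) (hb'3 : b' ^ 3 = 1) (hbz : b * z = z * b)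
    (hb'z : b' * z = z * b') (hbW : b ∈ W) (hb'W : b' ∈ W) (hbb : D.S.act' b' = D.S.act' b) :
    ∃ q, q ∈ Q ∧ q ∈ W ∧ q * b * q⁻¹ = b' := by
  obtain ⟨q, ⟨hq, hqW⟩, e⟩ := conj_of_coset (K := Q ⊓ W)
    (fun h3 => D.not_three (h3.trans (card_dvd_of_le inf_le_left))) (y := b) (y' := b')
    (fun k hk => ⟨D.h.conj_mem hbz hk.1, W.mul_mem (W.mul_mem hbW hk.2) (W.inv_mem hbW)⟩) hb3 hb'3
    ⟨(D.S.act'_one_iff (SuzukiType.mul_z hb'z (inv_z hbz))).1 (by
      rw [D.S.act'_mul hb'z (inv_z hbz), D.S.act'_inv hbz, hbb, mul_inv_cancel]),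
      W.mul_mem hb'W (W.inv_mem hbW)⟩
  exact ⟨q, hq, hqW, e⟩

theorem act'_conj {c b : G} (hc : c * z = z * c) (hb : b * z = z * b) :
    D.S.act' (c * b * c⁻¹) = D.S.act' c * D.S.act' b * (D.S.act' c)⁻¹ := by
  rw [D.S.act'_mul (SuzukiType.mul_z hc hb) (inv_z hc), D.S.act'_mul hc hb, D.S.act'_inv hc]

/-- Lifting a centralizing isometry. -/
theorem exists_lift (W : Subgroup G) {b : G} (hb3 : b ^ 3 = 1) (hbz : b * z = z * b) (hbW : b ∈ W)
    {A : O6} {b' : G} (hb'3 : b' ^ 3 = 1) (hb'z : b' * z = z * b') (hb'W : b' ∈ W)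
    {c0 : G} (hc0 : c0 * z = z * c0) (hc0W : c0 ∈ W) (hA : D.S.act' c0 = A)
    (hAb : A * D.S.act' b * A⁻¹ = D.S.act' b') :
    ∃ c, c * z = z * c ∧ c ∈ W ∧ D.S.act' c = A ∧ c * b * c⁻¹ = b' := by
  obtain ⟨q, hq, hqW, e⟩ := D.conj_mod W (b := c0 * b * c0⁻¹) (b' := b')
    (by rw [conj_pow, hb3, mul_one, mul_inv_cancel]) hb'3
    (SuzukiType.mul_z (SuzukiType.mul_z hc0 hbz) (inv_z hc0)) hb'z
    (W.mul_mem (W.mul_mem hc0W hbW) (W.inv_mem hc0W)) hb'W (by rw [D.act'_conj hc0 hbz, hA, hAb])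
  refine ⟨q * c0, SuzukiType.mul_z (D.S.qz hq) hc0, W.mul_mem hqW hc0W, ?_, ?_⟩
  · rw [D.S.act'_mul (D.S.qz hq) hc0, D.S.act'_q hq, one_mul, hA]
  · rw [← e]; group

theorem lift_omega {A : O6} (hA : A ∈ Cfsg.Omega (ZMod 2) ⇑F6) :
    ∃ c, c * z = z * c ∧ D.S.act' c = A := by
  obtain ⟨⟨c, hc⟩, e⟩ := D.S.F.lift A hA
  exact ⟨c, mem_centralizer_singleton_iff.1 hc, by rw [D.S.act'_def (mem_centralizer_singleton_iff.1 hc)]; exact e⟩

/-- Lifting into `C(y)`. -/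
theorem exists_cent {A : O6} (hA : A ∈ Cfsg.Omega (ZMod 2) ⇑F6) (hAy : ∀ v, act A (tau v) = tau (act A v)) :
    ∃ c, c * z = z * c ∧ c * y = y * c ∧ D.S.act' c = A := by
  obtain ⟨c0, hc0, hc0A⟩ := D.lift_omega hA
  have hcomm : A * D.S.act' y * A⁻¹ = D.S.act' y := by
    rw [D.act_eq_o1, mul_inv_eq_iff_eq_mul]
    exact ext_act fun v => by rw [act_mul, act_mul, (o_act v).1, hAy, (o_act _).1]
  obtain ⟨c, h1, -, h2, h3⟩ := D.exists_lift ⊤ D.y3 D.yz (mem_top _) D.y3 D.yz (mem_top _) hc0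
    (mem_top _) hc0A hcomm
  exact ⟨c, h1, mul_inv_eq_iff_eq_mul.1 h3, h2⟩

/-- The element inverting `y`. -/
theorem exists_inv : ∃ k, k * z = z * k ∧ k * a = a * k ∧ D.S.act' k = oi ∧ k * y * k⁻¹ = y⁻¹ := by
  obtain ⟨k0', hk0, hk0a, hk0A⟩ := D.S.exists_fix o_mem.2.2.2.2.1 (by rw [(o_act _).2.2.2.2.1]; decide)
  have hW : ∀ {g : G}, g * a = a * g → g ∈ centralizer ({a} : Set G) := fun h =>
    mem_centralizer_singleton_iff.2 h
  obtain ⟨k, h1, h2, h3, h4⟩ := D.exists_lift (centralizer ({a} : Set G)) D.y3 D.yz (hW D.ya)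
    (b' := y⁻¹) (by rw [inv_pow, D.y3, inv_one]) (inv_z D.yz) (inv_mem (hW D.ya)) hk0 (hW hk0a) hk0A (by
      rw [D.S.act'_inv D.yz, D.act_eq_o1, mul_inv_eq_iff_eq_mul, eq_inv_mul_iff_mul_eq]
      refine ext_act fun v => ?_
      simp only [act_mul, (o_act _).1, (o_act _).2.2.2.2.1, (inv_spec v).1, (tau_three _).1])
  exact ⟨k, h1, mem_centralizer_singleton_iff.1 h2, h3, h4⟩

/-- The exchange. -/
theorem exists_swap : ∃ g : O6, g ∈ Cfsg.Omega (ZMod 2) ⇑F6 ∧ ∀ v, act g v = swp v := by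
  obtain ⟨m, hm, hmz, -, hmw⟩ := D.S.exists_m (w := h1) ⟨rfl, rfl⟩
  exact ⟨D.S.act' m, D.S.act'_omega m, fun v => by rw [(D.S.inRad hm hmz).act_eq, hmw]; rfl⟩

/-- The list as isometries. -/
theorem exists_L (m : Fin 3) (i j : Fin 3) (k l : Fin 2) : ∃ A : O6, A ∈ Cfsg.Omega (ZMod 2) ⇑F6 ∧
    ∀ v, act A v = tau^[m] (L i j k l v) := by
  obtain ⟨g, hg, hgv⟩ := D.exists_swap
  refine ⟨o1 ^ (m : ℕ) * (o2 ^ (i : ℕ) * (o3 ^ (j : ℕ) * (os ^ (k : ℕ) * g ^ (l : ℕ)))),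
    mul_mem (pow_mem o_mem.1 _) (mul_mem (pow_mem o_mem.2.1 _) (mul_mem (pow_mem o_mem.2.2.1 _)
      (mul_mem (pow_mem o_mem.2.2.2.1 _) (pow_mem hg _)))), fun v => ?_⟩
  simp only [act_mul, act_pow]
  rw [iterate_congr (fun w => (o_act w).1), iterate_congr (fun w => (o_act w).2.1),
    iterate_congr (fun w => (o_act w).2.2.1), iterate_congr (fun w => (o_act w).2.2.2.1),
    iterate_congr hgv]
  rfl

/-- The image of `C(z) ∩ C(y)`. -/
theorem act_cases {c : G} (hcz : c * z = z * c) (hcy : c * y = y * c) :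
    ∃ (m i j : Fin 3) (k l : Fin 2), ∀ v, act (D.S.act' c) v = tau^[m] (L i j k l v) := by
  set A := D.S.act' c with hA
  have hAt : ∀ v, act A (tau v) = tau (act A v) := fun v => by
    rw [← D.act_y, ← D.act_y, ← act_mul, ← act_mul, hA, ← D.S.act'_mul hcz D.yz, ← D.S.act'_mul D.yz hcz, hcy]
  have hX : ∀ v, InX v → InX (act A v) := fun v hv => by
    rw [← tau_fix] at hv ⊢
    rw [← hAt, hv]
  obtain ⟨p1, p2, p3, p4, -, -, -, -, -, -, -, -, -, -, xe, xf, xh, xh'⟩ := planes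
  have hne : ∀ v, v ≠ 0 → act A v ≠ 0 := fun v hv e => hv (by rw [← act_inv_self A v, e, act_zero])
  obtain ⟨i, j, k, l, hL⟩ := cover _ (hX e1 xe) (hne _ (by decide)) (by rw [act_qf]; decide)
    _ (hX f1 xf) (by rw [act_qf]; decide) (by rw [act_bf]; decide)
    _ (hX h1 xh) (hne _ (by decide)) (by rw [act_qf]; decide) (by rw [act_bf]; decide) (by rw [act_bf]; decide)
    _ (hX h2 xh') (by rw [act_qf]; decide) (by rw [act_bf]; decide) (by rw [act_bf]; decide)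
    (by rw [act_bf]; decide)
  obtain ⟨m, hm⟩ : ∃ m : Fin 3, act A k0 = tau^[m] k0 := by
    have e : act A k0 = tau (act A w0) + act A w0 := by rw [← hAt, ← act_add, k0_diff.1]
    rcases k0_diff.2 (act A w0) with e' | e' | e' | e' <;> rw [← e] at e'
    · exact absurd e' (hne _ (by decide))
    · exact ⟨0, e'⟩
    · exact ⟨1, e'⟩
    · exact ⟨2, e'⟩
  have hw : act A w0 = tau^[m] w0 := by
    rw [show w0 = tau k0 by decide, hAt, hm, ← Function.iterate_succ_apply' (f := tau), Function.iterate_succ_apply (f := tau)]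
  obtain ⟨B, hB, hBv⟩ := D.exists_L m i j k l
  have hfix : ∀ v, InX v → tau^[m] v = v := fun v hv => Function.iterate_fixed (L_fix.2.1 v hv) _
  obtain ⟨x1', x2', x3', x4'⟩ := L_fix.2.2.1 i j k l
  rcases hL with ⟨e1', e2', e3', e4'⟩ | ⟨e1', e2', e3', e4'⟩
  · refine ⟨m, i, j, k, l, fun v => ?_⟩
    rw [← hBv v]
    congr 1
    apply ext_basis
    · rw [hBv, hfix _ x1', e1']
    · rw [hBv, hfix _ x2', e2']
    · rw [hBv, hfix _ x3', e3']
    · rw [hBv, hfix _ x4', e4']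
    · rw [hBv, (L_fix.1 i j k l).1, hm]
    · rw [hBv, (L_fix.1 i j k l).2.1, hw]
  · exfalso
    have hcom : rfl' u1 * B = A → False := fun e => rfl'_notMem p1 (by
      have : rfl' u1 = A * B⁻¹ := by rw [← e, mul_inv_cancel_right]
      rw [this]
      exact mul_mem (D.S.act'_omega c) (inv_mem hB))
    refine hcom (ext_basis ?_ ?_ ?_ ?_ ?_ ?_)
    · rw [act_mul, hBv, hfix _ x1', act_rfl' p1, e1']
    · rw [act_mul, hBv, hfix _ x2', act_rfl' p1, e2']
    · rw [act_mul, hBv, hfix _ x3', act_rfl' p1, e3']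
    · rw [act_mul, hBv, hfix _ x4', act_rfl' p1, e4']
    · rw [act_mul, hBv, (L_fix.1 i j k l).1, act_rfl' p1, hm]
      exact (show ∀ n : Fin 3, R u1 (tau^[(n : ℕ)] k0) = tau^[(n : ℕ)] k0 by decide +kernel) m
    · rw [act_mul, hBv, (L_fix.1 i j k l).2.1, act_rfl' p1, hw]
      exact (show ∀ n : Fin 3, R u1 (tau^[(n : ℕ)] w0) = tau^[(n : ℕ)] w0 by decide +kernel) m

/-- The order of `C_Q(y)`. -/
theorem card_CQ : Nat.card ↥(Q ⊓ centralizer ({y} : Set G)) = 32 := by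
  classical
  have hq : ∀ v : {v : V // InX v}, ∃ x ∈ Q, D.S.F.vec x = v.1 := fun v => D.S.F.surj v.1
  choose f hfQ hfv using hq
  let g : ZMod 2 × {v : V // InX v} → ↥(Q ⊓ centralizer ({y} : Set G)) := fun p =>
    ⟨zp z p.1 * f p.2, Q.mul_mem (D.S.zp_mem _) (hfQ _), mem_centralizer_singleton_iff.2 (by
      refine ((D.comm_iff_InX (Q.mul_mem (D.S.zp_mem _) (hfQ _))).2 ?_).symm
      rw [D.S.F.vec_mul (D.S.zp_mem _) (hfQ _), D.S.vec_zp, zero_add, hfv]
      exact p.2.2)⟩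
  have hb : Function.Bijective g := by
    constructor
    · rintro ⟨s, v⟩ ⟨s', v'⟩ e
      have e0 := congrArg Subtype.val e
      have e1 := congrArg D.S.F.vec e0
      simp only [g, D.S.F.vec_mul (D.S.zp_mem _) (hfQ _), D.S.vec_zp, zero_add, hfv] at e1
      obtain rfl := Subtype.ext e1
      have e3 : zp z s = zp z s' := mul_right_cancel e0
      rcases z2 s with rfl | rfl <;> rcases z2 s' with rfl | rfl <;> simp only [zp_zero, zp_one] at e3
      · rfl
      · exact absurd e3.symm D.h.ne_one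
      · exact absurd e3 D.h.ne_one
      · rfl
    · rintro ⟨x, hxQ, hxy⟩
      have hv : InX (D.S.F.vec x) := (D.comm_iff_InX hxQ).1 (mem_centralizer_singleton_iff.1 hxy).symm
      set v : {v : V // InX v} := ⟨_, hv⟩ with hvd
      rcases D.S.F.vec_cases (Q.mul_mem hxQ (Q.inv_mem (hfQ v))) (by
        rw [D.S.F.vec_mul hxQ (Q.inv_mem (hfQ v)), D.S.vec_inv (hfQ v), hfv, hvd, add_self_V]) with e | e
      · exact ⟨(0, v), Subtype.ext (by show zp z 0 * f v = x; rw [zp_zero, one_mul, mul_inv_eq_one.1 e])⟩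
      · exact ⟨(1, v), Subtype.ext (by show zp z 1 * f v = x; rw [zp_one, ← e, inv_mul_cancel_right])⟩
  rw [← Nat.card_eq_of_bijective g hb, Nat.card_prod, Nat.card_zmod, Nat.card_eq_fintype_card, card_InX]

/-- The order of `C(z) ∩ C(y)`. -/
theorem card_CC : Nat.card ↥(centralizer ({z} : Set G) ⊓ centralizer ({y} : Set G)) = 3456 := by
  classical
  have hl : ∀ p : Fin 3 × Fin 3 × Fin 3 × Fin 2 × Fin 2, ∃ c, c * z = z * c ∧ c * y = y * c ∧
      ∀ v : V, act (D.S.act' c) v = tau^[p.1] (L p.2.1 p.2.2.1 p.2.2.2.1 p.2.2.2.2 v) := by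
    rintro ⟨m, i, j, k, l⟩
    obtain ⟨A, hA, hAv⟩ := D.exists_L m i j k l
    obtain ⟨c, h1, h2, h3⟩ := D.exists_cent hA (fun v => by
      rw [hAv, hAv]
      have hc : ∀ w, L i j k l (tau w) = tau (L i j k l w) := fun w => by
        unfold L
        rw [← (Function.Commute.iterate_right (show Function.Commute tau swp from fun w => (commutes w).2.2.2.1) _) w,
          ← (Function.Commute.iterate_right (show Function.Commute tau sig from fun w => (commutes w).2.2.1) _) _,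
          ← (Function.Commute.iterate_right (show Function.Commute tau tau3 from fun w => (commutes w).2.1) _) _,
          ← (Function.Commute.iterate_right (show Function.Commute tau tau2 from fun w => (commutes w).1) _) _]
      rw [hc, ← Function.iterate_succ_apply (f := tau), Function.iterate_succ_apply' (f := tau)])
    exact ⟨c, h1, h2, by rw [h3]; exact hAv⟩
  choose f hfz hfy hfv using hl
  let g : (Fin 3 × Fin 3 × Fin 3 × Fin 2 × Fin 2) × ↥(Q ⊓ centralizer ({y} : Set G)) →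
      ↥(centralizer ({z} : Set G) ⊓ centralizer ({y} : Set G)) := fun p =>
    ⟨f p.1 * p.2, mem_centralizer_singleton_iff.2 (SuzukiType.mul_z (hfz _) (D.S.qz p.2.2.1)),
      mem_centralizer_singleton_iff.2 (SuzukiType.mul_z (hfy _) (mem_centralizer_singleton_iff.1 p.2.2.2))⟩
  have hvec : ∀ p (q : ↥(Q ⊓ centralizer ({y} : Set G))) v, act (D.S.act' (f p * q)) v =
      tau^[p.1] (L p.2.1 p.2.2.1 p.2.2.2.1 p.2.2.2.2 v) := fun p q v => by
    rw [D.S.act'_mul (hfz p) (D.S.qz q.2.1), D.S.act'_q q.2.1, mul_one, hfv]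
  have hb : Function.Bijective g := by
    constructor
    · rintro ⟨p, q⟩ ⟨p', q'⟩ e
      have e0 : f p * (q : G) = f p' * (q' : G) := congrArg Subtype.val e
      obtain ⟨m, i, j, k, l⟩ := p
      obtain ⟨m', i', j', k', l'⟩ := p'
      have hv : ∀ v, tau^[m] (L i j k l v) = tau^[m'] (L i' j' k' l' v) := fun v => by
        rw [← hvec (m, i, j, k, l) q v, ← hvec (m', i', j', k', l') q' v, e0]
      have hfx : ∀ (m : Fin 3) (v : V), InX v → tau^[m] v = v := fun m v hv =>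
        Function.iterate_fixed (L_fix.2.1 v hv) _
      obtain ⟨a1, a2, a3, a4⟩ := L_fix.2.2.1 i j k l
      obtain ⟨b1, b2, b3, b4⟩ := L_fix.2.2.1 i' j' k' l'
      have e1 := hv e1; rw [hfx _ _ a1, hfx _ _ b1] at e1
      have e2 := hv f1; rw [hfx _ _ a2, hfx _ _ b2] at e2
      have e3 := hv h1; rw [hfx _ _ a3, hfx _ _ b3] at e3
      have e4 := hv h2; rw [hfx _ _ a4, hfx _ _ b4] at e4
      have e5 := hv k0; rw [(L_fix.1 i j k l).1, (L_fix.1 i' j' k' l').1] at e5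
      obtain ⟨rfl, rfl, rfl, rfl, rfl⟩ := L_inj _ _ _ _ _ _ _ _ _ _ e1 e2 e3 e4 e5
      rw [Subtype.ext (mul_left_cancel e0)]
    · rintro ⟨c, hcz, hcy⟩
      have hz' := mem_centralizer_singleton_iff.1 hcz
      have hy' := mem_centralizer_singleton_iff.1 hcy
      obtain ⟨m, i, j, k, l, hv⟩ := D.act_cases hz' hy'
      set p : Fin 3 × Fin 3 × Fin 3 × Fin 2 × Fin 2 := (m, i, j, k, l) with hp
      have hA : D.S.act' (f p) = D.S.act' c := ext_act fun v => by rw [hfv, hv, hp]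
      have hQ : (f p)⁻¹ * c ∈ Q := (D.S.act'_one_iff (SuzukiType.mul_z (inv_z (hfz p)) hz')).1 (by
        rw [D.S.act'_mul (inv_z (hfz p)) hz', D.S.act'_inv (hfz p), hA, inv_mul_cancel])
      exact ⟨(p, ⟨_, hQ, mem_centralizer_singleton_iff.2 (SuzukiType.mul_z (inv_z (hfy p)) hy')⟩),
        Subtype.ext (mul_inv_cancel_left _ _)⟩
  rw [← Nat.card_eq_of_bijective g hb, Nat.card_prod, D.card_CQ, Nat.card_eq_fintype_card]
  rfl

end Su

end Cfsg.Agent.SuzukiThree
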