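import Cfsg.Agent.Lib.SuzukiType.Main
import Cfsg.Agent.Lib.SuzukiThree.Geometry
import Cfsg.Agent.Lib.SuzukiThree.Algebra

/-!
Coordinates in a group of Suzuki sporadic type adapted to an element of order three whose commutator
with `Q` is a quaternion group.
-/

set_option autoImplicit false
set_option maxRecDepth 8000
set_option synthInstance.maxSize 4096

namespace Cfsg.Agent.SuzukiThree

open Subgroup Cfsg.Agent.LargeExtra Cfsg.Agent.OctadInv.Orbits Cfsg.Agent.SuzukiType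
open scoped commutatorElement

variable {G : Type*} [Group G]

set_option maxHeartbeats 1000000 in
/-- A change of coordinates. -/
noncomputable def moveFrame {Q : Subgroup G} {z a : G} (F : Frame Q z a) (B : O6)
    (hB : B ∈ Cfsg.Omega (ZMod 2) ⇑F6) (x : G) (hx : act B (F.vec x) = e1) : Frame Q z x where
  vec g := act B (F.vec g)
  π := (MulAut.conj B).toMonoidHom.comp F.π
  vec_mul hg hh := by rw [F.vec_mul hg hh, act_add]
  vec_cases hg h0 := by
    refine F.vec_cases hg ?_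
    rw [← act_inv_self B (F.vec _), h0, act_zero]
  vec_z := by rw [F.vec_z, act_zero]
  vec_one := by rw [F.vec_one, act_zero]
  sq hg := by rw [F.sq hg, act_qf]
  comm hg hh := by rw [F.comm hg hh, act_bf]
  surj v := by
    obtain ⟨g, hg, e⟩ := F.surj (act B⁻¹ v)
    exact ⟨g, hg, by rw [e, ← act_mul, mul_inv_cancel, act_one]⟩
  vec_conj c g hg := by
    show act B (F.vec _) = act (B * F.π c * B⁻¹) _
    rw [F.vec_conj c hg, act_mul, act_mul, act_inv_self]
  ker c := by
    show B * F.π c * B⁻¹ = 1 ↔ _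
    rw [conj_eq_one_iff, F.ker]
  mem_omega c := mul_mem (mul_mem hB (F.mem_omega c)) (inv_mem hB)
  lift A hA := by
    obtain ⟨c, hc⟩ := F.lift (B⁻¹ * A * B) (mul_mem (mul_mem (inv_mem hB) hA) hB)
    refine ⟨c, ?_⟩
    show B * F.π c * B⁻¹ = A
    rw [hc]; group
  vec_a := hx

/-- `rot` is induced by an element of `Ω`. -/
theorem act_rot {r s : V} (hr : qf r = 1) (hs : qf s = 1) (v : V) :
    act (rfl' r * rfl' s) v = rot r s v := by
  rw [act_mul, act_rfl' hs, act_rfl' hr]; rfl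

/-- Isometries of order three of a line. -/
theorem line_auto : ∀ qu qv a b c d : ZMod 2,
    (∀ s t : ZMod 2, (s * a + t * c) * qu + (s * b + t * d) * qv + (s * a + t * c) * (s * b + t * d) =
      s * qu + t * qv + s * t) →
    (∀ s t : ZMod 2, ((s * a + t * c) * a + (s * b + t * d) * c) * a +
        ((s * a + t * c) * b + (s * b + t * d) * d) * c = s ∧
      ((s * a + t * c) * a + (s * b + t * d) * c) * b +
        ((s * a + t * c) * b + (s * b + t * d) * d) * d = t) →
    ¬ (a = 1 ∧ b = 0 ∧ c = 0 ∧ d = 1) →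
    qu = 1 ∧ qv = 1 ∧ b = 1 ∧ c = 1 ∧ d = a + 1 := by decide +kernel
/-- `InX` is orthogonal to the line. -/
theorem bf_InX : ∀ c : V, InX c → bf k0 c = 0 ∧ bf w0 c = 0 := by decide +kernel

variable [Finite G]

/-- An isometry fixing `e1` carrying a pair in `e1ᗮ` to `k0, w0`. -/
theorem exists_to_line {Q Q' : Subgroup G} {z a : G} (S : St Q Q' z a) {u v : V} (hu : qf u = 1)
    (hv : qf v = 1) (huv : bf u v = 1) (hu0 : y1 u = 0) (hv0 : y1 v = 0) :
    ∃ B ∈ Cfsg.Omega (ZMod 2) ⇑F6, act B e1 = e1 ∧ act B u = k0 ∧ act B v = w0 := by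
  set κ := pw u with hκ
  set w := pw v with hw
  have hκq : qf κ = 1 := by rw [hκ, qf_pw hu0, hu]
  have hwq : qf w = 1 := by rw [hw, qf_pw hv0, hv]
  have hB : bf w κ = 1 := by rw [hκ, hw, bf_pw_pw hv0 hu0, bf_comm, huv]
  obtain ⟨r, hr, hrW, s, hs, hsW, hrs⟩ := trans_w w (pw_mem _) hwq
  set A1 := rfl' r * rfl' s with hA1
  have hfix : ∀ {x : V}, InW x → R x e1 = e1 ∧ R x f1 = f1 := fun {x} hx => by
    constructor
    · rw [R, bf_e1, hx.2, SuzukiType.sm_zero, add_zero]
    · rw [R, bf_f1, hx.1, SuzukiType.sm_zero, add_zero]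
  have hA1f : ∀ v, act A1 v = R r (R s v) := fun v => by rw [hA1, act_mul, act_rfl' hs, act_rfl' hr]
  have hA1e : act A1 e1 = e1 ∧ act A1 f1 = f1 := by
    rw [hA1f, hA1f]
    exact ⟨by rw [(hfix hsW).1, (hfix hrW).1], by rw [(hfix hsW).2, (hfix hrW).2]⟩
  have hinv : ∀ {x}, act A1 x = x → act A1⁻¹ x = x := fun {x} h => by
    conv_lhs => rw [← h]
    exact act_inv_self _ _
  set κ1 := act A1⁻¹ κ with hκ1
  have hκ1W : InW κ1 := by
    constructor
    · rw [← bf_f1, ← hinv hA1e.2, hκ1, act_bf, bf_f1]; exact (pw_mem _).1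
    · rw [← bf_e1, ← hinv hA1e.1, hκ1, act_bf, bf_e1]; exact (pw_mem _).2
  have hw1 : act A1⁻¹ w = w0 := by rw [← hrs, ← hA1f, act_inv_self]
  have hκw : bf w0 κ1 = 1 := by rw [← hw1, hκ1, act_bf, hB]
  obtain ⟨r', hr', hrW', hrw, s', hs', hsW', hsw, hrs'⟩ :=
    trans_k κ1 hκ1W (by rw [hκ1, act_qf, hκq]) hκw
  set A := A1 * (rfl' r' * rfl' s') with hA
  have hAf : ∀ v, act A v = act A1 (R r' (R s' v)) := fun v => by
    rw [hA, act_mul, act_mul (rfl' r'), act_rfl' hs', act_rfl' hr']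
  have hAe : act A e1 = e1 := by rw [hAf, (hfix hsW').1, (hfix hrW').1, hA1e.1]
  have hAw : act A w0 = w := by
    rw [hAf, show R s' w0 = w0 by rw [R, hsw, SuzukiType.sm_zero, add_zero],
      show R r' w0 = w0 by rw [R, hrw, SuzukiType.sm_zero, add_zero], hA1f, hrs]
  have hAk : act A k0 = κ := by
    rw [hAf, hrs', hκ1, ← act_mul, mul_inv_cancel, act_one]
  obtain ⟨p, hp, hpk, hpw⟩ := separate κ w (pw_mem _) (pw_mem _) hB (x1 u) (x1 v)
  obtain ⟨m, hm, hmz, -, hmw⟩ := S.exists_m hp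
  set g := S.act' m with hg
  have hgR := S.inRad hm hmz
  have hgv : ∀ t : V, y1 t = 0 → act g t = t + sm (bf p t) e1 := fun t ht => by
    have h := T_of_y1 p ht
    rw [hgR.act_eq, hmw, ← h, add_comm (T p t) t, ← add_assoc, add_self_V, zero_add]
  have hge : act g e1 = e1 := hgR.1
  refine ⟨(g * A)⁻¹, inv_mem (mul_mem (S.act'_omega m) (mul_mem (pair_mem hr hs) (pair_mem hr' hs'))),
    ?_, ?_, ?_⟩
  · have : act (g * A) e1 = e1 := by rw [act_mul, hAe, hge]
    conv_lhs => rw [← this]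
    exact act_inv_self _ _
  · have : act (g * A) k0 = u := by
      rw [act_mul, hAk, hgv _ (pw_mem _).2, hpk]
      exact (eq_pw_of_y1 hu0).symm
    conv_lhs => rw [← this]
    exact act_inv_self _ _
  · have : act (g * A) w0 = v := by
      rw [act_mul, hAw, hgv _ (pw_mem _).2, hpw]
      exact (eq_pw_of_y1 hv0).symm
    conv_lhs => rw [← this]
    exact act_inv_self _ _

/-- The adapted data. -/
structure Su (Q Q' : Subgroup G) (z a y : G) where
  S : St Q Q' z a
  card : Nat.card ↥Q = 128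
  y3 : y ^ 3 = 1
  yz : y * z = z * y
  ya : y * a = a * y
  act_y : ∀ v, act (S.act' y) v = tau v

/-- An element of odd order fixing a coordinate vector fixes the element. -/
theorem fixed_comm {Q : Subgroup G} {z a y : G} (h : Ctr Q z) (F : Frame Q z a) (hy3 : y ^ 3 = 1)
    (hyz : y * z = z * y) {x : G} (hx : x ∈ Q)
    (hv : F.vec (y * x * y⁻¹) = F.vec x) : y * x = x * y := by
  have hm : y * x * y⁻¹ * x⁻¹ ∈ Q := Q.mul_mem (h.conj_mem hyz hx) (Q.inv_mem hx)
  have h0 : F.vec (y * x * y⁻¹ * x⁻¹) = 0 := by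
    have h1 := F.vec_mul hm hx
    rw [inv_mul_cancel_right, hv] at h1
    exact add_eq_right.1 h1.symm
  rcases F.vec_cases hm h0 with e | e
  · exact mul_inv_eq_iff_eq_mul.1 (mul_inv_eq_one.1 e)
  · exfalso
    have e1 : y * x * y⁻¹ = z * x := mul_inv_eq_iff_eq_mul.1 e
    have hzy : y * z * y⁻¹ = z := by rw [hyz, mul_inv_cancel_right]
    have hzxy : ∀ g, y * (z * g) * y⁻¹ = z * (y * g * y⁻¹) := fun g => by
      rw [← mul_assoc y z g, hyz]; group
    have e2 : y * (y * x * y⁻¹) * y⁻¹ = x := by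
      rw [e1, hzxy, e1, ← mul_assoc, h.zz, one_mul]
    have e3 : y ^ 3 * x * (y ^ 3)⁻¹ = z * x := by
      calc y ^ 3 * x * (y ^ 3)⁻¹ = y * (y * (y * x * y⁻¹) * y⁻¹) * y⁻¹ := by simp [pow_succ, mul_assoc]
        _ = z * x := by rw [e2, e1]
    rw [hy3, one_mul, inv_one, mul_one] at e3
    exact h.ne_one (mul_eq_right.1 e3.symm)

set_option maxHeartbeats 1000000 in
theorem exists_su {Q Q' : Subgroup G} {z a : G} (S : St Q Q' z a) (hcard : Nat.card ↥Q = 128) {y : G}
    (hy3 : y ^ 3 = 1) (hy1 : y ≠ 1) (hyz : y * z = z * y) (L : Subgroup G) (hLQ : L ≤ Q)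
    (hL8 : Nat.card ↥L = 8) (hLna : ¬ IsMulCommutative ↥L) (hLy : ∀ x ∈ Q, y * x * y⁻¹ * x⁻¹ ∈ L)
    (hLn : ∀ x ∈ L, y * x * y⁻¹ ∈ L) :
    ∃ (x : G) (Q₁ : Subgroup G), Nonempty (Su Q Q₁ z x y) := by
  classical
  set A := S.act' y with hA
  obtain ⟨p, hp, q, hq, hpq⟩ : ∃ p ∈ L, ∃ q ∈ L, p * q ≠ q * p := by
    by_contra hc
    push Not at hc
    exact hLna ⟨⟨fun g k => Subtype.ext (hc _ g.2 _ k.2)⟩⟩
  set u := S.F.vec p
  set v := S.F.vec q
  have huv : bf u v = 1 := (z2 _).resolve_left fun e => hpq ((S.comm_iff (hLQ hp) (hLQ hq)).2 e)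
  have hzL : z ∈ L := by
    rcases S.h.comm_cases (hLQ hp) (hLQ hq) with e | e
    · exact absurd (commutatorElement_eq_one_iff_mul_comm.1 e) hpq
    · rw [← e, commutatorElement_def]
      exact L.mul_mem (L.mul_mem (L.mul_mem hp hq) (L.inv_mem hp)) (L.inv_mem hq)
  -- the four vectors of `L`
  have hne : ∀ s t : ZMod 2, sm s u + sm t v = 0 → s = 0 ∧ t = 0 := by
    intro s t e
    have e1 := congrArg (fun w => bf w v) e
    have e2 := congrArg (fun w => bf w u) e
    rcases z2 s with rfl | rfl <;> rcases z2 t with rfl | rfl <;>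
      simp [SuzukiType.sm_zero, sm_one, bf_add_left, bf_zero_left, bf_self, bf_comm v u, huv] at e1 e2 ⊢
  let el : ZMod 2 × ZMod 2 × ZMod 2 → ↥L := fun i =>
    ⟨zp z i.1 * (zp p i.2.1 * zp q i.2.2),
      L.mul_mem (L.pow_mem hzL _) (L.mul_mem (L.pow_mem hp _) (L.pow_mem hq _))⟩
  have hzpQ : ∀ {g : G}, g ∈ Q → ∀ t, zp g t ∈ Q := fun hg t => Q.pow_mem hg _
  have hvzp : ∀ {g : G}, g ∈ Q → ∀ t, S.F.vec (zp g t) = sm t (S.F.vec g) := fun {g} hg t => by
    rcases z2 t with rfl | rfl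
    · rw [zp_zero, S.F.vec_one, SuzukiType.sm_zero]
    · rw [zp_one, sm_one]
  have hvel : ∀ i, S.F.vec (el i : G) = sm i.2.1 u + sm i.2.2 v := fun i => by
    show S.F.vec (zp z i.1 * (zp p i.2.1 * zp q i.2.2)) = _
    rw [S.F.vec_mul (S.zp_mem _) (Q.mul_mem (hzpQ (hLQ hp) _) (hzpQ (hLQ hq) _)),
      S.F.vec_mul (hzpQ (hLQ hp) _) (hzpQ (hLQ hq) _), S.vec_zp, hvzp (hLQ hp), hvzp (hLQ hq), zero_add]
  have hsmadd : ∀ (s t : ZMod 2) (w : V), sm (s + t) w = sm s w + sm t w := fun s t w => by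
    rw [sm_eq, sm_eq, sm_eq, add_smul]
  have hinj : Function.Injective el := by
    rintro ⟨i, s, t⟩ ⟨i', s', t'⟩ e
    have e1 := congrArg (fun g : ↥L => S.F.vec (g : G)) e
    simp only [hvel] at e1
    have e2 : sm (s + s') u + sm (t + t') v = 0 := by
      rw [hsmadd, hsmadd, add_add_add_comm, e1, add_self_V]
    obtain ⟨h1, h2⟩ := hne _ _ e2
    have hz2 : ∀ x y : ZMod 2, x + y = 0 → x = y := by decide
    obtain rfl := hz2 _ _ h1
    obtain rfl := hz2 _ _ h2
    have e3 : zp z i = zp z i' := mul_right_cancel (congrArg Subtype.val e)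
    rcases z2 i with rfl | rfl <;> rcases z2 i' with rfl | rfl <;> simp only [zp_zero, zp_one] at e3
    · rfl
    · exact absurd e3.symm S.h.ne_one
    · exact absurd e3 S.h.ne_one
    · rfl
  have hsurj : ∀ g : ↥L, ∃ i, el i = g := by
    have hb : Function.Bijective el := (Nat.bijective_iff_injective_and_card el).2 ⟨hinj, by
      rw [hL8]; simp [Nat.card_prod, Nat.card_zmod]⟩
    exact hb.2
  have hW : ∀ g ∈ L, ∃ s t, S.F.vec g = sm s u + sm t v := fun g hg => by
    obtain ⟨i, hi⟩ := hsurj ⟨g, hg⟩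
    exact ⟨i.2.1, i.2.2, by rw [← hvel i, hi]⟩
  -- the action
  have hAconj : ∀ {g : G}, g ∈ Q → S.F.vec (y * g * y⁻¹) = act A (S.F.vec g) := fun hg => S.vec_conj hyz hg
  have hAne : A ≠ 1 := fun e => by
    have hyQ := (S.act'_one_iff hyz).1 e
    have h1 : orderOf (⟨y, hyQ⟩ : ↥Q) = 3 := by
      rw [Subgroup.orderOf_mk]; exact orderOf_eq_prime hy3 hy1
    have h2 := orderOf_dvd_natCard (⟨y, hyQ⟩ : ↥Q)
    rw [h1, hcard] at h2
    norm_num at h2
  have hA3 : A * A * A = 1 := by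
    rw [hA, ← S.act'_mul hyz hyz, ← S.act'_mul (SuzukiType.mul_z hyz hyz) hyz, S.act'_one_iff]
    · rw [← pow_two, ← pow_succ, hy3]; exact Q.one_mem
    · exact SuzukiType.mul_z (SuzukiType.mul_z hyz hyz) hyz
  have hA3' : ∀ w, act A (act A (act A w)) = w := fun w => by
    rw [← act_mul, ← act_mul, hA3, act_one]
  have hdiff : ∀ w : V, ∃ s t, act A w + w = sm s u + sm t v := by
    intro w
    obtain ⟨g, hg, rfl⟩ := S.F.surj w
    obtain ⟨s, t, hst⟩ := hW _ (hLy g hg)
    refine ⟨s, t, ?_⟩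
    rw [← hst, S.F.vec_mul (S.h.conj_mem hyz hg) (Q.inv_mem hg), S.vec_inv hg, hAconj hg]
  have hinW : ∀ s t, ∃ s' t', act A (sm s u + sm t v) = sm s' u + sm t' v := by
    intro s t
    obtain ⟨g, hg⟩ : ∃ g : ↥L, S.F.vec (g : G) = sm s u + sm t v := ⟨el (0, s, t), hvel _⟩
    obtain ⟨s', t', h'⟩ := hW _ (hLn _ g.2)
    exact ⟨s', t', by rw [← hg, ← hAconj (hLQ g.2), h']⟩
  have hfour : ∀ s t, sm s u + sm t v = 0 ∨ sm s u + sm t v = u ∨ sm s u + sm t v = v ∨
      sm s u + sm t v = u + v := by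
    intro s t
    rcases z2 s with rfl | rfl <;> rcases z2 t with rfl | rfl <;> simp [SuzukiType.sm_zero, sm_one]
  -- the orthogonal space is fixed
  have hperp0 : ∀ w, bf u w = 0 → bf v w = 0 → act A w = w := by
    intro w h1 h2
    have hb : ∀ s t, bf (sm s u + sm t v) w = 0 := fun s t => by
      rcases z2 s with rfl | rfl <;> rcases z2 t with rfl | rfl <;>
        simp [SuzukiType.sm_zero, sm_one, bf_add_left, bf_zero_left, h1, h2]
    obtain ⟨s, t, e⟩ := hdiff w
    have hpair : ∀ s' t', bf (act A w + w) (sm s' u + sm t' v) = 0 := by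
      intro s' t'
      obtain ⟨c, d, e1⟩ := hinW s' t'
      obtain ⟨c', d', e2⟩ := hinW c d
      have e3 : act A (sm c' u + sm d' v) = sm s' u + sm t' v := by rw [← e2, ← e1, hA3']
      rw [bf_add_left, bf_comm w, hb, add_zero, ← e3, act_bf, bf_comm, hb]
    rw [e] at hpair
    have e1 := hpair 1 0
    have e2 := hpair 0 1
    rcases z2 s with rfl | rfl <;> rcases z2 t with rfl | rfl <;>
      simp [SuzukiType.sm_zero, sm_one, bf_add_left, bf_zero_left, bf_self, bf_comm v u, huv] at e1 e2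
    rw [SuzukiType.sm_zero, SuzukiType.sm_zero, add_zero] at e
    exact eq_of_add _ _ e
  obtain ⟨a1, b1, hau⟩ := hinW 1 0
  obtain ⟨c1, d1, hav⟩ := hinW 0 1
  rw [SuzukiType.sm_zero, sm_one, add_zero] at hau
  rw [SuzukiType.sm_zero, sm_one, zero_add] at hav
  have hlin : ∀ s t, act A (sm s u + sm t v) = sm (s * a1 + t * c1) u + sm (s * b1 + t * d1) v := fun s t => by
    rw [act_add, act_sm, act_sm, hau, hav]
    simp only [sm_eq, smul_add, smul_smul, add_smul]
    abel
  have hq : ∀ s t, qf (sm s u + sm t v) = s * qf u + t * qf v + s * t := fun s t => by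
    rcases z2 s with rfl | rfl <;> rcases z2 t with rfl | rfl <;>
      simp [SuzukiType.sm_zero, sm_one, qf_add, huv, show qf (0 : V) = 0 by decide]
  have hcoef : ∀ s t s' t', sm s u + sm t v = sm s' u + sm t' v → s = s' ∧ t = t' := fun s t s' t' e => by
    have hz2 : ∀ x y : ZMod 2, x + y = 0 → x = y := by decide
    obtain ⟨h1, h2⟩ := hne (s + s') (t + t') (by rw [hsmadd, hsmadd, add_add_add_comm, e, add_self_V])
    exact ⟨hz2 _ _ h1, hz2 _ _ h2⟩
  have hqinv : ∀ s t, qf (sm (s * a1 + t * c1) u + sm (s * b1 + t * d1) v) = s * qf u + t * qf v + s * t :=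
    fun s t => by rw [← hlin, act_qf, hq]
  have hsm1 : ∀ w : V, sm 1 w = w := sm_one
  have hcube : ∀ s t : ZMod 2,
      ((s * a1 + t * c1) * a1 + (s * b1 + t * d1) * c1) * a1 +
        ((s * a1 + t * c1) * b1 + (s * b1 + t * d1) * d1) * c1 = s ∧
      ((s * a1 + t * c1) * a1 + (s * b1 + t * d1) * c1) * b1 +
        ((s * a1 + t * c1) * b1 + (s * b1 + t * d1) * d1) * d1 = t := fun s t =>
    hcoef _ _ _ _ (by rw [← hlin, ← hlin, ← hlin, hA3'])
  have hnot : ¬ (a1 = 1 ∧ b1 = 0 ∧ c1 = 0 ∧ d1 = 1) := by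
    rintro ⟨rfl, rfl, rfl, rfl⟩
    refine hAne (ext_act fun w => ?_)
    rw [act_one]
    set c := w + sm (bf v w) u + sm (bf u w) v with hc
    have h1 : bf u c = 0 := by
      rw [hc, bf_add_right, bf_add_right]
      rcases z2 (bf v w) with e | e <;> rcases z2 (bf u w) with e' | e' <;>
        simp [e, e', SuzukiType.sm_zero, sm_one, bf_zero_right, bf_self, huv, CharTwo.add_self_eq_zero]
    have h2 : bf v c = 0 := by
      rw [hc, bf_add_right, bf_add_right]
      rcases z2 (bf v w) with e | e <;> rcases z2 (bf u w) with e' | e' <;>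
        simp [e, e', SuzukiType.sm_zero, sm_one, bf_zero_right, bf_self, huv, bf_comm v u, CharTwo.add_self_eq_zero]
    have hw : w = c + (sm (bf v w) u + sm (bf u w) v) := by
      rw [hc, add_assoc w, add_assoc, add_self_V, add_zero]
    conv_lhs => rw [hw]
    rw [act_add, hperp0 c h1 h2, hlin]
    conv_rhs => rw [hw]
    simp
  obtain ⟨hqu1, hqv1, rfl, rfl, rfl⟩ := line_auto (qf u) (qf v) a1 b1 c1 d1
    (fun s t => by rw [← hqinv s t, hq]) hcube hnot
  set u' := u with hu'def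
  set v' := act A u with hv'def
  have hAv : act A v' = u' + v' := by
    rw [hau, hlin]
    rcases z2 a1 with rfl | rfl
    · simp [SuzukiType.sm_zero, sm_one, hu'def]
    · simp [SuzukiType.sm_zero, sm_one, hu'def, CharTwo.add_self_eq_zero, ← add_assoc, add_self_V]
  have hbf : bf u' v' = 1 := by
    rw [hau]
    rcases z2 a1 with rfl | rfl <;>
      simp [SuzukiType.sm_zero, sm_one, bf_add_right, bf_self, huv]
  have hqu : qf u' = 1 ∧ qf v' = 1 := ⟨hqu1, by rw [hv'def, act_qf]; exact hqu1⟩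
  have hperp : ∀ w, bf u' w = 0 → bf v' w = 0 → act A w = w := by
    intro w h1 h2
    refine hperp0 w h1 ?_
    have h1' : bf u w = 0 := h1
    rw [hau, bf_add_left] at h2
    rcases z2 a1 with rfl | rfl <;>
      simpa [SuzukiType.sm_zero, sm_one, bf_zero_left, h1', hu'def] using h2
  -- new coordinates
  obtain ⟨w, hwq, hwu, hwv, hw0⟩ := exists_sing u' hqu.1 v' hqu.2 hbf
  obtain ⟨x, hx, hxw⟩ := S.F.surj w
  have hxx : x * x = 1 := by rw [S.F.sq hx, hxw, hwq, zp_zero]
  have hx1 : x ≠ 1 := fun e => hw0 (by rw [← hxw, e, S.F.vec_one])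
  have hxz : x ≠ z := fun e => hw0 (by rw [← hxw, e, S.F.vec_z])
  obtain ⟨g, hg⟩ := isConj_iff.1 (S.conj_of_mem hx hxx hx1).symm
  have P := (Pair.mk' S.h (g := g) (hg ▸ hx) (hg ▸ hxz)).two (by omega)
  rw [hg] at P
  obtain ⟨B, hB, hBw⟩ := exists_to_e1 hw0 hwq
  have hBy : ∀ b : V, bf w b = 0 → y1 (act B b) = 0 := fun b hb => by
    rw [← bf_e1, ← hBw, act_bf, bf_comm, hb]
  let S1 : St Q _ z x := ⟨P, moveFrame S.F B hB x (by rw [hxw]; exact hBw)⟩
  obtain ⟨C, hC, hCe, hCu, hCv⟩ := exists_to_line S1 (u := act B u') (v := act B v')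
    (by rw [act_qf, hqu.1]) (by rw [act_qf, hqu.2]) (by rw [act_bf, hbf])
    (hBy _ (by rw [bf_comm, hwu])) (hBy _ (by rw [bf_comm, hwv]))
  have hCB : act (C * B) (S.F.vec x) = e1 := by rw [act_mul, hxw, hBw, hCe]
  let S2 : St Q _ z x := ⟨P, moveFrame S.F (C * B) (mul_mem hC hB) x hCB⟩
  refine ⟨x, _, ⟨{ S := S2, card := hcard, y3 := hy3, yz := hyz, ya := ?_, act_y := ?_ }⟩⟩
  · refine fixed_comm S.h S.F hy3 hyz hx ?_
    rw [hAconj hx, hxw, hperp _ hwu hwv]
  · intro b
    have hact : S2.act' y = (C * B) * A * (C * B)⁻¹ := by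
      rw [S2.act'_def hyz]
      show MulAut.conj (C * B) (S.F.π _) = _
      rw [MulAut.conj_apply, ← S.act'_def hyz]
    have hkey : ∀ b0, act (S2.act' y) (act (C * B) b0) = act (C * B) (act A b0) := fun b0 => by
      rw [hact, act_mul, act_mul _ A, act_inv_self]
    have hlin : ∀ c d : V, tau (c + d) = tau c + tau d := fun c d => by
      show rot k0 w0 (c + d) = _
      rw [← act_rot (r := k0) (s := w0) (by decide) (by decide), act_add,
        act_rot (r := k0) (s := w0) (by decide) (by decide), act_rot (r := k0) (s := w0) (by decide) (by decide)]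
      rfl
    set c := b + sm (za b) k0 + sm (zb b) w0 with hc
    have hcX : InX c := by
      rw [hc]; constructor <;> simp [sm, za, zb, k0, w0, SuzukiType.mk, CharTwo.add_self_eq_zero]
    have hb : b = c + (sm (za b) k0 + sm (zb b) w0) := by
      rw [hc, add_assoc b, add_assoc, add_self_V, add_zero]
    have hk : act (S2.act' y) k0 = tau k0 ∧ act (S2.act' y) w0 = tau w0 := by
      have e1 : act (C * B) u' = k0 := by rw [act_mul, hCu]
      have e2 : act (C * B) v' = w0 := by rw [act_mul, hCv]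
      refine ⟨?_, ?_⟩
      · conv_lhs => rw [← e1]
        rw [hkey, ← hv'def, e2]; decide
      · conv_lhs => rw [← e2]
        rw [hkey, hAv, act_add, e1, e2]; decide
    have hcfix : act (S2.act' y) c = c := by
      conv_lhs => rw [show c = act (C * B) (act (C * B)⁻¹ c) by rw [← act_mul, mul_inv_cancel, act_one]]
      rw [hkey, hperp]
      · rw [← act_mul, mul_inv_cancel, act_one]
      · rw [← act_bf (C * B), ← act_mul (C * B) (C * B)⁻¹, mul_inv_cancel, act_one, act_mul, hCu]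
        exact (bf_InX c hcX).1
      · rw [← act_bf (C * B), ← act_mul (C * B) (C * B)⁻¹, mul_inv_cancel, act_one, act_mul, hCv]
        exact (bf_InX c hcX).2
    have hts : ∀ (t : ZMod 2) (d : V), tau (sm t d) = sm t (tau d) := fun t d => by
      rcases z2 t with rfl | rfl
      · rw [SuzukiType.sm_zero, SuzukiType.sm_zero]; decide
      · rw [sm_one, sm_one]
    clear_value c
    conv_lhs => rw [hb]
    conv_rhs => rw [hb]
    rw [act_add, act_add, act_sm, act_sm, hk.1, hk.2, hcfix, hlin, hlin, hts, hts, (tau_fix c).2 hcX]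

end Cfsg.Agent.SuzukiThree
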