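import Cfsg.Agent.Lib.SuzukiThree.Parts
import Cfsg.Agent.Lib.CharP.CharP

/-!
The centralizer of the involution in the quotient of `C(y)` by the element of order three.
-/

set_option autoImplicit false
set_option maxRecDepth 8000
set_option synthInstance.maxSize 4096

namespace Cfsg.Agent.SuzukiThree

open Subgroup Cfsg.Agent.LargeExtra Cfsg.Agent.OctadInv.Orbits Cfsg.Agent.SuzukiType

/-- The generator of order four is a product of two elements of order three. -/
theorem sI_split : ∃ g h : S23, g ^ 3 = 1 ∧ h ^ 3 = 1 ∧ g * h = sI := by decide +kernel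

/-- Central elements and involutions. -/
theorem s23_centre : ∀ g : S23, ((g * sI = sI * g ∧ g * sA = sA * g) ∨ g * g = 1) → g = 1 ∨ g = sW := by
  decide +kernel

/-- The centre of a copy of `SL(2, 3)`. -/
theorem centre_cases {H : Type*} [Group H] {S : Subgroup H} (e : ↥S ≃* S23) {w x : H} (hw : w ∈ S)
    (hx : x ∈ S) (hww : w * w = 1) (hw1 : w ≠ 1) (hc : ∀ s ∈ S, x * s = s * x) : x = 1 ∨ x = w := by
  have hW : e ⟨w, hw⟩ = sW := (s23_centre _ (Or.inr (by
    rw [← map_mul, show (⟨w, hw⟩ : ↥S) * ⟨w, hw⟩ = 1 from Subtype.ext hww, map_one]))).resolve_left fun e0 =>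
      hw1 (congrArg Subtype.val (e.map_eq_one_iff.1 e0))
  have hcc : ∀ g, e ⟨x, hx⟩ * g = g * e ⟨x, hx⟩ := fun g => by
    rw [← e.apply_symm_apply g, ← map_mul, ← map_mul]
    exact congrArg e (Subtype.ext (hc _ (e.symm g).2))
  rcases s23_centre _ (Or.inl ⟨hcc sI, hcc sA⟩) with e0 | e0
  · exact Or.inl (congrArg Subtype.val (e.map_eq_one_iff.1 e0))
  · exact Or.inr (congrArg Subtype.val (e.injective (e0.trans hW.symm)))

/-- Elements of odd order generate a copy of `SL(2, 3)`. -/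
theorem SLData.le_odd {H : Type*} [Group H] {i j a w : H} (S : SLData i j a w) :
    Subgroup.closure ({i, a} : Set H) ≤ Subgroup.closure {x : H | Odd (orderOf x)} := by
  have h3 : ∀ x : H, x ^ 3 = 1 → x ∈ Subgroup.closure {x : H | Odd (orderOf x)} := fun x hx =>
    subset_closure (Odd.of_dvd_nat (by decide : Odd 3) (orderOf_dvd_of_pow_eq_one hx))
  refine (Subgroup.closure_le _).2 ?_
  rintro x (e | e) <;> rw [e]
  · obtain ⟨g, k, hg, hk, hgk⟩ := sI_split
    rw [← S.toFun_gen.1, show S.toFun' sI = S.hom (g * k) by rw [hgk]; rfl, map_mul]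
    exact mul_mem (h3 _ (by rw [← map_pow, hg, map_one])) (h3 _ (by rw [← map_pow, hk, map_one]))
  · exact h3 a S.a3

variable {G : Type*} [Group G] [Finite G] {Q Q' : Subgroup G} {z a y : G}

/-- `C(z) ∩ C(y)`. -/
abbrev cc (z y : G) : Subgroup G := centralizer ({z} : Set G) ⊓ centralizer ({y} : Set G)

omit [Finite G] in
theorem mem_cc {g : G} : g ∈ cc z y ↔ g * z = z * g ∧ g * y = y * g := by
  simp [cc, mem_inf, mem_centralizer_singleton_iff]

/-- A map with kernel generated by `y`. -/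
structure Proj (z y : G) (H : Type*) [Group H] where
  ψ : ↥(cc z y) →* H
  surj : Function.Surjective ψ
  ker : ∀ x, ψ x = 1 ↔ (x : G) ∈ zpowers y

namespace Su

variable (D : Su Q Q' z a y)
include D

/-- Elements of exponent four congruent modulo `y` are equal. -/
theorem eq_of_ypow {u v : G} (hu : u ^ 4 = 1) (hv : v ^ 4 = 1) (huy : u * y = y * u)
    (h : u⁻¹ * v ∈ zpowers y) : u = v := by
  obtain ⟨n, hn⟩ := mem_zpowers_iff.1 h
  set x := y ^ n
  have hx3 : x ^ 3 = 1 := by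
    show (y ^ n) ^ 3 = 1
    rw [← zpow_natCast, ← zpow_mul, mul_comm, zpow_mul, zpow_natCast, D.y3, one_zpow]
  have hc : Commute u x := (show Commute u y from huy).zpow_right n
  have hvx : v = u * x := by rw [hn, mul_inv_cancel_left]
  have h4 : x ^ 4 = 1 := by
    have e := hc.mul_pow 4
    rw [← hvx, hv, hu, one_mul] at e
    exact e.symm
  rw [pow_succ, hx3, one_mul] at h4
  rw [hvx, h4, mul_one]

end Su

namespace Parts

variable {D : Su Q Q' z a y} (P : Parts D)
include P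

theorem gens_mem : P.r2 ∈ cc z y ∧ P.r3 ∈ cc z y ∧ P.a2 ∈ cc z y ∧ P.a3 ∈ cc z y ∧ P.M ≤ cc z y :=
  have h : P.M ≤ cc z y := fun _ hg => mem_cc.2 (P.M_le hg)
  ⟨h (subset_closure (by simp)), h (subset_closure (by simp)), h (subset_closure (by simp)),
    h (subset_closure (by simp)), h⟩

/-- The cube of an element of `M` lies in `Q`. -/
theorem cube_mem {c : G} (hc : c ∈ P.M) : c ^ 3 ∈ Q := by
  let A : Subgroup O6 := Subgroup.closure {o1, o2, o3}
  have hA : ∀ {x}, x ∈ A → ∀ {x'}, x' ∈ A → Commute x x' := by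
    have hg : ∀ x ∈ ({o1, o2, o3} : Set O6), ∀ x' ∈ ({o1, o2, o3} : Set O6), x * x' = x' * x := by
      have e12 : o1 * o2 = o2 * o1 := ext_act fun v => by
        simp only [act_mul, (o_act _).1, (o_act _).2.1, (commutes v).1]
      have e13 : o1 * o3 = o3 * o1 := ext_act fun v => by
        simp only [act_mul, (o_act _).1, (o_act _).2.2.1, (commutes v).2.1]
      have e23 : o2 * o3 = o3 * o2 := ext_act fun v => by
        simp only [act_mul, (o_act _).2.1, (o_act _).2.2.1, (commutes v).2.2.2.2.1]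
      intro x hx x' hx'
      simp only [Set.mem_insert_iff, Set.mem_singleton_iff] at hx hx'
      rcases hx with e | e | e <;> rcases hx' with e' | e' | e' <;> rw [e, e']
      · exact e12
      · exact e13
      · exact e12.symm
      · exact e23
      · exact e13.symm
      · exact e23.symm
    intro x hx x' hx'
    have h1 : A ≤ centralizer ({o1, o2, o3} : Set O6) :=
      (closure_le _).2 fun x hx => mem_centralizer_iff.2 fun x' hx' => hg x' hx' x hx
    have h2 : A ≤ centralizer (A : Set O6) :=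
      (closure_le _).2 fun x hx => mem_centralizer_iff.2 fun x' hx' => (mem_centralizer_iff.1 (h1 hx') x hx).symm
    exact (mem_centralizer_iff.1 (h2 hx) x' hx').symm
  have hA3 : ∀ x ∈ A, x ^ 3 = 1 := fun x hx => by
    induction hx using Subgroup.closure_induction with
    | mem x hx =>
      rcases hx with e | e | e <;> rw [e]
      · exact o_pow_four.2.2.1
      · exact o_pow_four.2.2.2.1
      · exact o_pow_four.2.2.2.2
    | one => exact one_pow 3
    | mul x x' hx hx' e e' => rw [(hA hx hx').mul_pow, e, e', one_mul]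
    | inv x _ e => rw [inv_pow, e, inv_one]
  have key : ∀ c ∈ P.M, D.S.act' c ∈ A := fun c hc => by
    induction hc using Subgroup.closure_induction with
    | mem x hx =>
      rcases hx with e | e | e | e | e <;> rw [e]
      · rw [D.S.act'_q P.r2Q]; exact one_mem _
      · rw [D.S.act'_q P.r3Q]; exact one_mem _
      · rw [P.act2]; exact subset_closure (by simp)
      · rw [P.act3]; exact subset_closure (by simp)
      · rw [D.act_eq_o1]; exact subset_closure (by simp)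
    | one => rw [D.S.act'_q Q.one_mem]; exact one_mem _
    | mul x x' hx hx' e e' => rw [D.S.act'_mul (P.M_le hx).1 (P.M_le hx').1]; exact mul_mem e e'
    | inv x hx e => rw [D.S.act'_inv (P.M_le hx).1]; exact inv_mem e
  exact (D.S.act'_one_iff ((show Commute c z from (P.M_le hc).1).pow_left 3).eq).1 (by
    rw [D.act'_pow (P.M_le hc).1, hA3 _ (key c hc)])

variable {H : Type*} [Group H] (π : Proj z y H)

/-- The image of `Q ∩ C(y)`. -/
def Qb (_ : Parts D) (π : Proj z y H) : Subgroup H := (Q.subgroupOf (cc z y)).map π.ψ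

/-- The image of one factor. -/
def fac (π : Proj z y H) (r b : ↥(cc z y)) : Subgroup H := Subgroup.closure {π.ψ r, π.ψ b}

def R2 : ↥(cc z y) := ⟨P.r2, P.gens_mem.1⟩
def R3 : ↥(cc z y) := ⟨P.r3, P.gens_mem.2.1⟩
def A2 : ↥(cc z y) := ⟨P.a2, P.gens_mem.2.2.1⟩
def A3 : ↥(cc z y) := ⟨P.a3, P.gens_mem.2.2.2.1⟩

omit [Finite G] P in
theorem z_mem_cc (D : Su Q Q' z a y) : z ∈ cc z y := mem_cc.2 ⟨rfl, D.yz.symm⟩

def Zc (_ : Parts D) : ↥(cc z y) := ⟨z, z_mem_cc D⟩

theorem psi_inj {u v : ↥(cc z y)} (hu : (u : G) ^ 4 = 1) (hv : (v : G) ^ 4 = 1) (h : π.ψ u = π.ψ v) :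
    u = v := by
  refine Subtype.ext (D.eq_of_ypow hu hv (mem_cc.1 u.2).2 ?_)
  have := (π.ker (u⁻¹ * v)).1 (by rw [map_mul, map_inv, h, inv_mul_cancel])
  simpa using this

theorem zb_facts : π.ψ P.Zc * π.ψ P.Zc = 1 ∧ π.ψ P.Zc ≠ 1 := by
  refine ⟨by rw [← map_mul, show P.Zc * P.Zc = 1 from Subtype.ext D.h.zz, map_one], fun e => ?_⟩
  rw [← map_one π.ψ] at e
  exact D.h.ne_one (congrArg Subtype.val (P.psi_inj π (show z ^ 4 = 1 from D.q_pow_four D.h.z_mem)
    (one_pow 4) e))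

/-- The data of one factor. -/
theorem fac_data {r b : ↥(cc z y)} {f : V → V} {u : V} (hr : (r : G) ∈ Q) (hr2 : (r : G) * r = z)
    (hb3 : (b : G) ^ 3 = 1) (hv : D.S.F.vec (r : G) = u) (hact : ∀ v, act (D.S.act' (b : G)) v = f v)
    (hbf : bf u (f u) = 1) (hff : f (f u) = u + f u) :
    ∃ j c, SLData (π.ψ r) j c (π.ψ P.Zc) ∧ Subgroup.closure {π.ψ r, c} = fac π r b := by
  obtain ⟨h1, h2⟩ := factor_rel (D := D) (mem_cc.1 b.2).1 hr hv hact hbf hff
  refine exists_slData ?_ (P.zb_facts π).1 (P.zb_facts π).2 ?_ ?_ ?_ ?_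
  · rw [← map_mul]; exact congrArg π.ψ (Subtype.ext hr2)
  · rw [← map_pow, show b ^ 3 = 1 from Subtype.ext hb3, map_one]
  · simp only [← map_inv, ← map_mul]
    exact congrArg π.ψ (Subtype.ext h1)
  · simp only [← map_inv, ← map_mul]
    exact h2.imp (fun e => congrArg π.ψ (Subtype.ext e)) fun e => congrArg π.ψ (Subtype.ext e)
  · simp only [← map_mul]
    exact congrArg π.ψ (Subtype.ext (mem_cc.1 b.2).1.symm)

theorem fac_two : ∃ j c, SLData (π.ψ P.R2) j c (π.ψ P.Zc) ∧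
    Subgroup.closure {π.ψ P.R2, c} = fac π P.R2 P.A2 :=
  P.fac_data π P.r2Q P.r_sq.1 P.a2p P.vr2 (fun v => by
    show act (D.S.act' P.a2) v = tau2 v
    rw [P.act2, (o_act v).2.1]) (by decide) plane_facts.1

theorem fac_three : ∃ j c, SLData (π.ψ P.R3) j c (π.ψ P.Zc) ∧
    Subgroup.closure {π.ψ P.R3, c} = fac π P.R3 P.A3 :=
  P.fac_data π P.r3Q P.r_sq.2 P.a3p P.vr3 (fun v => by
    show act (D.S.act' P.a3) v = tau3 v
    rw [P.act3, (o_act v).2.2.1]) (by decide) plane_facts.2.1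

theorem fac_comm : fac π P.R2 P.A2 ≤ centralizer (fac π P.R3 P.A3 : Set H) := by
  obtain ⟨h1, -, h2, -, h3⟩ := P.cross
  have hg : ∀ u ∈ ({π.ψ P.R2, π.ψ P.A2} : Set H), ∀ v ∈ ({π.ψ P.R3, π.ψ P.A3} : Set H), v * u = u * v := by
    rintro u (rfl | rfl) v (rfl | rfl) <;> simp only [← map_mul] <;> refine congrArg π.ψ (Subtype.ext ?_)
    · exact h3.symm
    · exact h2
    · exact h1.symm
    · exact P.a23.symm
  refine (closure_le _).2 fun u hu => ?_
  have h3 : fac π P.R3 P.A3 ≤ centralizer ({u} : Set H) :=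
    (closure_le _).2 fun v hv => mem_centralizer_singleton_iff.2 (hg u hu v hv)
  exact mem_centralizer_iff.2 fun v hv => mem_centralizer_singleton_iff.1 (h3 hv)

/-- The join of the factors. -/
theorem sup_eq : fac π P.R2 P.A2 ⊔ fac π P.R3 P.A3 = (P.M.subgroupOf (cc z y)).map π.ψ := by
  refine le_antisymm (sup_le ((closure_le _).2 ?_) ((closure_le _).2 ?_)) ?_
  · rintro u (rfl | rfl) <;> refine mem_map_of_mem _ (mem_subgroupOf.2 ?_) <;> exact subset_closure (by simp [R2, A2])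
  · rintro u (rfl | rfl) <;> refine mem_map_of_mem _ (mem_subgroupOf.2 ?_) <;> exact subset_closure (by simp [R3, A3])
  · set T := fac π P.R2 P.A2 ⊔ fac π P.R3 P.A3 with hT
    have hle : P.M ≤ (T.comap π.ψ).map (cc z y).subtype := by
      refine (closure_le _).2 ?_
      rintro x (e | e | e | e | e) <;> rw [e]
      · exact ⟨P.R2, mem_sup_left (subset_closure (by simp)), rfl⟩
      · exact ⟨P.R3, mem_sup_right (subset_closure (by simp)), rfl⟩
      · exact ⟨P.A2, mem_sup_left (subset_closure (by simp)), rfl⟩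
      · exact ⟨P.A3, mem_sup_right (subset_closure (by simp)), rfl⟩
      · refine ⟨⟨y, mem_cc.2 ⟨D.yz, rfl⟩⟩, ?_, rfl⟩
        show π.ψ _ ∈ T
        rw [(π.ker _).2 (mem_zpowers y)]
        exact one_mem _
    rintro x ⟨c, hc, rfl⟩
    obtain ⟨d, hd, hdc⟩ := hle hc
    rw [Subtype.ext (show (c : G) = (d : G) from hdc.symm)]
    exact hd

theorem Qb_le : P.Qb π ≤ fac π P.R2 P.A2 ⊔ fac π P.R3 P.A3 := by
  rw [P.sup_eq π]
  exact map_mono fun c hc => P.CQ_le_M hc (mem_cc.1 c.2).2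

/-- Two-elements of the join lie in the image of `Q`. -/
theorem two_mem {x : H} (hx : x ∈ fac π P.R2 P.A2 ⊔ fac π P.R3 P.A3) (h2 : ∃ k : ℕ, x ^ 2 ^ k = 1) :
    x ∈ P.Qb π := by
  rw [P.sup_eq π] at hx
  obtain ⟨c, hc, rfl⟩ := hx
  obtain ⟨k, hk⟩ := h2
  have h3 : π.ψ c ^ 3 ∈ P.Qb π := ⟨c ^ 3, mem_subgroupOf.2 (P.cube_mem hc), map_pow _ _ _⟩
  obtain ⟨m, hm⟩ := exists_pow_eq_self_of_coprime (n := 3) (x := π.ψ c)
    (((show Nat.Coprime 3 2 by norm_num).pow_right k).coprime_dvd_right (orderOf_dvd_of_pow_eq_one hk))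
  rw [← hm]
  exact pow_mem h3 m

theorem Qb_normal : (P.Qb π).Normal := by
  have hn : (Q.subgroupOf (cc z y)).Normal :=
    ⟨fun n hn g => D.h.conj_mem (mem_cc.1 g.2).1 hn⟩
  exact hn.map π.ψ π.surj

theorem Qb_two : IsPGroup 2 ↥(P.Qb π) := by
  rintro ⟨x, c, hc, rfl⟩
  refine ⟨2, Subtype.ext ?_⟩
  show π.ψ c ^ 2 ^ 2 = 1
  rw [← map_pow, show c ^ 2 ^ 2 = 1 from Subtype.ext (D.q_pow_four hc), map_one]

theorem closure_odd : fac π P.R2 P.A2 ⊔ fac π P.R3 P.A3 = Subgroup.closure {x : H | Odd (orderOf x)} := by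
  refine le_antisymm (sup_le ?_ ?_) ((closure_le _).2 fun x hx => ?_)
  · obtain ⟨j, c, S, e⟩ := P.fac_two π
    exact e ▸ S.le_odd
  · obtain ⟨j, c, S, e⟩ := P.fac_three π
    exact e ▸ S.le_odd
  · rw [P.sup_eq π]
    obtain ⟨c, rfl⟩ := π.surj x
    set d := 2 ^ (orderOf c).factorization 2 with hd
    have hdvd : d ∣ orderOf c := Nat.ordProj_dvd _ 2
    have hcd : c ^ d ∈ P.M.subgroupOf (cc z y) := by
      refine mem_subgroupOf.2 (P.odd_mem (mem_cc.1 (c ^ d).2).1 (mem_cc.1 (c ^ d).2).2 ?_)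
      rw [Subgroup.orderOf_coe, orderOf_pow_of_dvd (by positivity) hdvd]
      exact Nat.odd_iff.2 (Nat.two_dvd_ne_zero.1 (Nat.not_dvd_ordCompl Nat.prime_two (orderOf_pos c).ne'))
    obtain ⟨m, hm⟩ := exists_pow_eq_self_of_coprime (n := d) (x := π.ψ c)
      ((Nat.coprime_two_left.2 hx).pow_left _)
    rw [← hm, ← map_pow]
    exact pow_mem (mem_map_of_mem _ hcd) m

theorem fac_meet : fac π P.R2 P.A2 ⊓ fac π P.R3 P.A3 = zpowers (π.ψ P.Zc) := by
  obtain ⟨j, c, S, e⟩ := P.fac_two π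
  obtain ⟨j', c', S', e'⟩ := P.fac_three π
  have hz2 : π.ψ P.Zc ∈ fac π P.R2 P.A2 := e ▸ S.ii ▸ mul_mem (subset_closure (by simp)) (subset_closure (by simp))
  have hz3 : π.ψ P.Zc ∈ fac π P.R3 P.A3 :=
    e' ▸ S'.ii ▸ mul_mem (subset_closure (by simp)) (subset_closure (by simp))
  refine le_antisymm ?_ (zpowers_le.2 ⟨hz2, hz3⟩)
  rintro x ⟨h2, h3⟩
  rcases centre_cases S.equiv (e ▸ hz2) (e ▸ h2) (P.zb_facts π).1
      (P.zb_facts π).2 (fun s hs => by
        rw [e] at hs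
        exact mem_centralizer_iff.1 (P.fac_comm π hs) x h3) with h | h <;> rw [h]
  · exact one_mem _
  · exact mem_zpowers _

/-- The factors are normal in their join. -/
theorem fac_normal : ((fac π P.R2 P.A2).subgroupOf (fac π P.R2 P.A2 ⊔ fac π P.R3 P.A3)).Normal ∧
    ((fac π P.R3 P.A3).subgroupOf (fac π P.R2 P.A2 ⊔ fac π P.R3 P.A3)).Normal := by
  have h : ∀ {A B : Subgroup H}, A ≤ centralizer (B : Set H) → B ≤ normalizer (A : Set H) := by
    intro A B hAB b hb
    refine mem_normalizer_iff.2 fun x => ?_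
    have hcb : ∀ x ∈ A, b * x * b⁻¹ = x := fun x hx => by
      rw [mem_centralizer_iff.1 (hAB hx) b hb, mul_inv_cancel_right]
    refine ⟨fun hx => by rw [hcb x hx]; exact hx, fun hx => ?_⟩
    have e : b⁻¹ * (b * x * b⁻¹) * b = b * x * b⁻¹ := by
      rw [mul_assoc, mem_centralizer_iff.1 (hAB hx) b hb |>.symm, inv_mul_cancel_left]
    rw [show x = b⁻¹ * (b * x * b⁻¹) * b by group, e]
    exact hx
  constructor
  · exact (normal_subgroupOf_iff_le_normalizer le_sup_left).2 (sup_le le_normalizer (h (P.fac_comm π)))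
  · refine (normal_subgroupOf_iff_le_normalizer le_sup_right).2 (sup_le (h ?_) le_normalizer)
    exact le_centralizer_iff.1 (P.fac_comm π)

theorem pCore_sup : (Cfsg.pCore 2 ↥(fac π P.R2 P.A2 ⊔ fac π P.R3 P.A3)).map
    (Subgroup.subtype (fac π P.R2 P.A2 ⊔ fac π P.R3 P.A3)) = P.Qb π := by
  set K := fac π P.R2 P.A2 ⊔ fac π P.R3 P.A3 with hK
  refine le_antisymm ?_ ?_
  · rintro x ⟨u, hu, rfl⟩
    obtain ⟨k, hk⟩ := CharP.isPGroup_pCore 2 ↥K ⟨u, hu⟩
    exact P.two_mem π u.2 ⟨k, congrArg (fun v => ((v : ↥K) : H)) (congrArg Subtype.val hk)⟩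
  · haveI := P.Qb_normal π
    haveI : ((P.Qb π).subgroupOf K).Normal := inferInstance
    calc P.Qb π = ((P.Qb π).subgroupOf K).map K.subtype := (map_subgroupOf_eq_of_le (P.Qb_le π)).symm
      _ ≤ _ := map_mono (Cores.le_pCore ((P.Qb_two π).comap_of_injective K.subtype K.subtype_injective))

/-- The generalized Fitting subgroup. -/
theorem genFitting [Finite H] : Cfsg.generalizedFittingSubgroup H = P.Qb π := by
  haveI := P.Qb_normal π
  haveI : Fact (Nat.Prime 2) := ⟨Nat.prime_two⟩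
  have hcore : Cfsg.pCore 2 H = P.Qb π := by
    refine le_antisymm (fun x hx => ?_) (Cores.le_pCore (P.Qb_two π))
    have h2 : ∀ u ∈ Cfsg.pCore 2 H, ∃ k : ℕ, u ^ 2 ^ k = 1 := fun u hu => by
      obtain ⟨k, hk⟩ := CharP.isPGroup_pCore 2 H ⟨u, hu⟩
      exact ⟨k, congrArg Subtype.val hk⟩
    obtain ⟨c, rfl⟩ := π.surj x
    obtain ⟨m, i, j, k, l, hv⟩ := D.act_cases (mem_cc.1 c.2).1 (mem_cc.1 c.2).2
    obtain ⟨B, -, hBv⟩ := D.exists_L 0 i j k l
    have hKn : (fac π P.R2 P.A2 ⊔ fac π P.R3 P.A3).Normal := by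
      rw [P.closure_odd π]
      refine ⟨fun n hn g => ?_⟩
      induction hn using Subgroup.closure_induction with
      | mem u hu =>
        refine subset_closure ?_
        show Odd (orderOf (g * u * g⁻¹))
        have hu' : Odd (orderOf u) := hu
        have e : orderOf u = orderOf (g * u * g⁻¹) :=
          SemiconjBy.orderOf_eq g (show SemiconjBy g u (g * u * g⁻¹) by simp [SemiconjBy])
        rwa [e] at hu'
      | one => simp
      | mul u v _ _ eu ev => rw [show g * (u * v) * g⁻¹ = g * u * g⁻¹ * (g * v * g⁻¹) by group]; exact mul_mem eu ev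
      | inv u _ eu => rw [show g * u⁻¹ * g⁻¹ = (g * u * g⁻¹)⁻¹ by group]; exact inv_mem eu
    have hcomm : ∀ (b : ↥(cc z y)) (o : O6) (f : V → V), π.ψ b ∈ fac π P.R2 P.A2 ⊔ fac π P.R3 P.A3 →
        D.S.act' (b : G) = o → (∀ v, act o v = f v) → f k0 = k0 → f w0 = w0 →
        (∀ v, InX v → InX (f v)) → ∀ v, L i j k l (f v) = f (L i j k l v) := by
      intro b o f hb hbo hf hfk hfw hfX
      have hmem : π.ψ c * π.ψ b * (π.ψ c)⁻¹ * (π.ψ b)⁻¹ ∈ P.Qb π := by
        refine P.two_mem π (mul_mem (hKn.conj_mem _ hb _) (inv_mem hb)) (h2 _ ?_)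
        have hn := Cores.pCore_normal (G := H) 2
        rw [show π.ψ c * π.ψ b * (π.ψ c)⁻¹ * (π.ψ b)⁻¹ = π.ψ c * (π.ψ b * (π.ψ c)⁻¹ * (π.ψ b)⁻¹) by group]
        exact mul_mem hx (hn.conj_mem _ (inv_mem hx) _)
      obtain ⟨q, hq0, he⟩ := hmem
      have hq : (q : G) ∈ Q := hq0
      have hd : ((c * b * c⁻¹ * b⁻¹ * q⁻¹ : ↥(cc z y)) : G) ∈ zpowers y :=
        (π.ker _).1 (by simp only [map_mul, map_inv, he, mul_inv_cancel])
      obtain ⟨n, hn⟩ := mem_zpowers_iff.1 hd
      have hfix : ∀ v, InX v → act (D.S.act' (y ^ n)) v = v := fun v hv => by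
        have hz : ∀ r : ℕ, act (D.S.act' (y ^ r)) v = v := fun r => by
          rw [D.act'_pow D.yz, D.act_eq_o1, SuzukiThree.act_pow, iterate_congr (fun w => (o_act w).1)]
          exact Function.iterate_fixed (L_fix.2.1 v hv) _
        obtain ⟨r, hr⟩ : ∃ r : ℕ, y ^ n = y ^ r := by
          have := mem_powers_iff_mem_zpowers.2 (zpow_mem (mem_zpowers y) n)
          obtain ⟨r, hr⟩ := this
          exact ⟨r, hr.symm⟩
        rw [hr]; exact hz r
      have hX : ∀ v, InX v → act (D.S.act' ((c : G) * b)) v = act (D.S.act' ((b : G) * c)) v := fun v hvX => by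
        have hcz := (mem_cc.1 c.2).1
        have hbz := (mem_cc.1 b.2).1
        have hqy : y ^ n * (q : G) * ((b : G) * c) = (c : G) * b := by
          rw [hn]; simp [mul_assoc]
        have hyz : y ^ n * z = z * y ^ n := ((show Commute y z from D.yz).zpow_left n).eq
        rw [← hqy, D.S.act'_mul (SuzukiType.mul_z hyz (D.S.qz hq)) (SuzukiType.mul_z hbz hcz),
          D.S.act'_mul hyz (D.S.qz hq), D.S.act'_q hq, mul_one, act_mul]
        refine hfix _ ?_
        rw [D.S.act'_mul hbz hcz, act_mul, hv, hbo, hf]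
        exact hfX _ (by rw [Function.iterate_fixed (L_fix.2.1 _ (L_InX i j k l v hvX)) _]; exact L_InX i j k l v hvX)
      intro v
      have he' : B * o = o * B := by
        have hLX : ∀ v, InX v → act (B * o) v = act (o * B) v := fun v hvX => by
          have e := hX v hvX
          rw [D.S.act'_mul (mem_cc.1 c.2).1 (mem_cc.1 b.2).1, D.S.act'_mul (mem_cc.1 b.2).1 (mem_cc.1 c.2).1,
            act_mul, act_mul, hbo, hv, hv, hf, hf,
            Function.iterate_fixed (L_fix.2.1 _ (L_InX i j k l _ (hfX v hvX))) _,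
            Function.iterate_fixed (L_fix.2.1 _ (L_InX i j k l v hvX)) _] at e
          rw [act_mul, act_mul, hBv, hBv, hf, hf]
          exact e
        refine ext_basis (hLX _ planes.2.2.2.2.2.2.2.2.2.2.2.2.2.2.1) (hLX _ planes.2.2.2.2.2.2.2.2.2.2.2.2.2.2.2.1)
          (hLX _ planes.2.2.2.2.2.2.2.2.2.2.2.2.2.2.2.2.1) (hLX _ planes.2.2.2.2.2.2.2.2.2.2.2.2.2.2.2.2.2) ?_ ?_
        · rw [act_mul, act_mul, hBv, hBv, hf, hfk, Fin.val_zero, Function.iterate_zero_apply, (L_fix.1 i j k l).1,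
            hf, hfk]
        · rw [act_mul, act_mul, hBv, hBv, hf, hfw, Fin.val_zero, Function.iterate_zero_apply, (L_fix.1 i j k l).2.1,
            hf, hfw]
      have e := congrArg (fun A => act A v) he'
      simp only [act_mul, hBv, hf, Fin.val_zero, Function.iterate_zero_apply] at e
      exact e
    have hA : ∀ b : ↥(cc z y), (b : G) ∈ P.M → π.ψ b ∈ fac π P.R2 P.A2 ⊔ fac π P.R3 P.A3 := fun b hb => by
      rw [P.sup_eq π]; exact mem_map_of_mem _ hb
    obtain ⟨rfl, rfl⟩ := cent_rot i j k l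
      (hcomm P.A2 o2 tau2 (hA _ (subset_closure (by simp [A2]))) P.act2 (fun v => (o_act v).2.1)
        rot_X.1 rot_X.2.1 rot_X.2.2.1)
      (hcomm P.A3 o3 tau3 (hA _ (subset_closure (by simp [A3]))) P.act3 (fun v => (o_act v).2.2.1)
        rot_X.2.2.2.1 rot_X.2.2.2.2.1 rot_X.2.2.2.2.2)
    refine P.two_mem π ?_ (h2 _ hx)
    refine hA c (P.mem_M (mem_cc.1 c.2).1 (mem_cc.1 c.2).2 (m := m) (i := i) (j := j) fun v => ?_).1
    rw [hv]; rfl
  rw [← hcore]
  refine CharP.genFitting_eq_pCore_iff.2 ?_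
  rw [hcore]
  intro x hx
  obtain ⟨c, rfl⟩ := π.surj x
  have hcz := (mem_cc.1 c.2).1
  have hcy := (mem_cc.1 c.2).2
  obtain ⟨m, i, j, k, l, hv⟩ := D.act_cases hcz hcy
  obtain ⟨rfl, rfl, rfl, rfl⟩ := L_trivial i j k l fun v hvX => by
    obtain ⟨q, hq, hqv⟩ := D.S.F.surj v
    have hqy : q * y = y * q := ((D.comm_iff_InX hq).2 (hqv ▸ hvX)).symm
    let q' : ↥(cc z y) := ⟨q, mem_cc.2 ⟨D.S.qz hq, hqy⟩⟩
    have e : c * q' * c⁻¹ = q' := by
      refine P.psi_inj π ?_ (D.q_pow_four hq) ?_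
      · show ((c : G) * q * (c : G)⁻¹) ^ 4 = 1
        exact D.q_pow_four (D.h.conj_mem hcz hq)
      · rw [map_mul, map_mul, map_inv, ← mem_centralizer_iff.1 hx _ (mem_map_of_mem π.ψ (x := q') hq),
          mul_inv_cancel_right]
    have e' := congrArg (fun u : ↥(cc z y) => D.S.F.vec (u : G)) e
    simp only [Subgroup.coe_mul, Subgroup.coe_inv, q'] at e'
    rw [D.S.vec_conj hcz hq, hqv, hv, Function.iterate_fixed (L_fix.2.1 _ (L_InX i j k l v hvX)) _] at e'
    exact e'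
  have h := (P.mem_M hcz hcy (m := m) (i := 0) (j := 0) fun v => by rw [hv]; rfl).2
  simp only [Fin.val_zero, pow_zero, mul_one] at h
  refine ⟨⟨_, mem_cc.2 ⟨D.S.qz h, ?_⟩⟩, h, ?_⟩
  · exact SuzukiType.mul_z (z := y) hcy (inv_z (z := y) ((Commute.refl y).pow_left _).eq)
  · show π.ψ (c * (⟨y, mem_cc.2 ⟨D.yz, rfl⟩⟩ ^ (m : ℕ))⁻¹) = _
    rw [map_mul, map_inv, map_pow,
      (π.ker ⟨y, mem_cc.2 ⟨D.yz, rfl⟩⟩).2 (mem_zpowers y), one_pow, inv_one, mul_one]

omit P in
/-- The order of the image. -/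
theorem card_image (D : Su Q Q' z a y) (π : Proj z y H) : Nat.card H = 1152 := by
  have h1 := Subgroup.card_mul_index π.ψ.ker
  rw [Subgroup.index_ker, MonoidHom.range_eq_top.2 π.surj, card_top, D.card_CC] at h1
  have hle : zpowers y ≤ cc z y := zpowers_le.2 (mem_cc.2 ⟨D.yz, rfl⟩)
  have hk : π.ψ.ker = (zpowers y).subgroupOf (cc z y) := by
    ext x
    rw [MonoidHom.mem_ker, π.ker, mem_subgroupOf]
  rw [hk, Nat.card_congr (subgroupOfEquivOfLe hle).toEquiv, Nat.card_zpowers,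
    orderOf_eq_prime (p := 3) D.y3 D.y_ne] at h1
  omega

end Parts

end Cfsg.Agent.SuzukiThree
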