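import Cfsg.Agent.Lib.SuzukiThree.Fusion
import Cfsg.Agent.Lib.SuzukiThree.Quotient

/-!
The quotient of `C(y)` by the element of order three has an involution centralizer of unitary type.
-/

set_option autoImplicit false
set_option maxRecDepth 8000
set_option synthInstance.maxSize 4096

namespace Cfsg.Agent.SuzukiThree

open Subgroup Cfsg.Agent.LargeExtra Cfsg.Agent.OctadInv.Orbits Cfsg.Agent.SuzukiType

variable {G : Type*} [Group G] [Finite G] {Q Q' : Subgroup G} {z a y : G}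

/-- A quotient of `C(y)` by `y`. -/
structure Quot (y : G) (X : Type*) [Group X] where
  φ : ↥(centralizer ({y} : Set G)) →* X
  surj : Function.Surjective φ
  ker : ∀ x, φ x = 1 ↔ (x : G) ∈ zpowers y

/-- The centralizer data. -/
structure UType (X : Type*) [Group X] (zb : X) : Prop where
  two : orderOf zb = 2
  hyp : ∃ (H₁ H₂ : Subgroup (Subgroup.centralizer ({zb} : Set X)))
    (Qs : Subgroup (Subgroup.centralizer ({zb} : Set X))),
    H₁ ⊔ H₂ = Subgroup.closure {x : Subgroup.centralizer ({zb} : Set X) | Odd (orderOf x)} ∧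
    (H₁.subgroupOf (H₁ ⊔ H₂)).Normal ∧ (H₂.subgroupOf (H₁ ⊔ H₂)).Normal ∧
    Nonempty (H₁ ≃* Matrix.SpecialLinearGroup (Fin 2) (ZMod 3)) ∧
    Nonempty (H₂ ≃* Matrix.SpecialLinearGroup (Fin 2) (ZMod 3)) ∧
    (H₁ ⊓ H₂).map (Subgroup.subtype (Subgroup.centralizer ({zb} : Set X))) = Subgroup.zpowers zb ∧
    Qs.Normal ∧ Qs = (Cfsg.pCore 2 ↥(H₁ ⊔ H₂)).map (Subgroup.subtype (H₁ ⊔ H₂)) ∧
    Cfsg.generalizedFittingSubgroup (Subgroup.centralizer ({zb} : Set X)) = Qs ∧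
    (∃ g : X, (∃ hq : g * zb * g⁻¹ ∈ Subgroup.centralizer ({zb} : Set X),
      (⟨g * zb * g⁻¹, hq⟩ : Subgroup.centralizer ({zb} : Set X)) ∈ Qs) ∧ g * zb * g⁻¹ ≠ zb) ∧
    Nat.card ↥(Subgroup.centralizer ({zb} : Set X)) = 2 ^ 7 * 3 ^ 2 ∧
    ∀ g : X, g * zb * g⁻¹ ∈ Qs.map (Subgroup.subtype (Subgroup.centralizer ({zb} : Set X))) → g * zb * g⁻¹ ≠ zb →
      Nat.card ↥((Qs.map (Subgroup.subtype (Subgroup.centralizer ({zb} : Set X)))) ⊓
        (Qs.map (Subgroup.subtype (Subgroup.centralizer ({zb} : Set X)))).map (MulAut.conj g).toMonoidHom) = 4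

namespace Su

variable (D : Su Q Q' z a y) {X : Type*} [Group X] (T : Quot y X)
include D

/-- `z` in `C(y)`. -/
def zw : ↥(centralizer ({y} : Set G)) := ⟨z, mem_centralizer_singleton_iff.2 D.yz.symm⟩

theorem quot_inj {u v : ↥(centralizer ({y} : Set G))} (hu : (u : G) ^ 4 = 1) (hv : (v : G) ^ 4 = 1)
    (h : T.φ u = T.φ v) : u = v := by
  refine Subtype.ext (D.eq_of_ypow hu hv (mem_centralizer_singleton_iff.1 u.2) ?_)
  have := (T.ker (u⁻¹ * v)).1 (by rw [map_mul, map_inv, h, inv_mul_cancel])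
  simpa using this

theorem zb_two : orderOf (T.φ D.zw) = 2 := by
  haveI : Fact (Nat.Prime 2) := ⟨Nat.prime_two⟩
  refine orderOf_eq_prime (by rw [← map_pow, show D.zw ^ 2 = 1 from Subtype.ext (by
    show z ^ 2 = 1
    rw [pow_two, D.h.zz]), map_one]) fun e => ?_
  rw [← map_one T.φ] at e
  exact D.h.ne_one (congrArg Subtype.val (D.quot_inj T (show z ^ 4 = 1 from D.q_pow_four D.h.z_mem)
    (one_pow 4) e))

/-- Conjugates of `z` congruent to elements of exponent four modulo `y`. -/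
theorem lift_eq {g : ↥(centralizer ({y} : Set G))} {q : ↥(centralizer ({y} : Set G))}
    (hq : (q : G) ^ 4 = 1) (h : T.φ g * T.φ D.zw * (T.φ g)⁻¹ = T.φ q) :
    (g : G) * z * (g : G)⁻¹ = q := by
  have h' : T.φ (g * D.zw * g⁻¹) = T.φ q := by rw [map_mul, map_mul, map_inv, h]
  exact congrArg Subtype.val (D.quot_inj T (by
    show ((g : G) * z * (g : G)⁻¹) ^ 4 = 1
    rw [conj_pow, D.q_pow_four D.h.z_mem]; group) hq h')

/-- The projection to the centralizer of the image of `z`. -/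
theorem exists_proj : ∃ π : Proj z y ↥(centralizer ({T.φ D.zw} : Set X)),
    ∀ c : ↥(cc z y), ((π.ψ c : X)) = T.φ ⟨c, c.2.2⟩ := by
  have hmem : ∀ c : ↥(cc z y), T.φ (Subgroup.inclusion inf_le_right c) ∈ centralizer ({T.φ D.zw} : Set X) :=
    fun c => mem_centralizer_singleton_iff.2 (by
      rw [← map_mul, ← map_mul]
      exact congrArg T.φ (Subtype.ext (mem_cc.1 c.2).1))
  refine ⟨{ ψ := (T.φ.comp (Subgroup.inclusion inf_le_right)).codRestrict _ hmem
            surj := ?_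
            ker := fun c => ?_ }, fun c => rfl⟩
  · rintro ⟨x, hx⟩
    obtain ⟨g, rfl⟩ := T.surj x
    have hgz : (g : G) * z * (g : G)⁻¹ = z := by
      refine D.lift_eq T (q := D.zw) (D.q_pow_four D.h.z_mem) ?_
      rw [mem_centralizer_singleton_iff.1 hx, mul_inv_cancel_right]
    exact ⟨⟨g, mem_cc.2 ⟨mul_inv_eq_iff_eq_mul.1 hgz, mem_centralizer_singleton_iff.1 g.2⟩⟩, Subtype.ext rfl⟩
  · rw [Subtype.ext_iff]
    exact T.ker _

/-- The quotient is of unitary type. -/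
theorem quot_uType [Finite X] : UType X (T.φ D.zw) := by
  classical
  refine ⟨D.zb_two T, ?_⟩
  obtain ⟨P⟩ := D.exists_parts
  set W := centralizer ({y} : Set G) with hW
  set Hb := centralizer ({T.φ D.zw} : Set X) with hHb
  set Q0 := (Q ⊓ W).subgroupOf W with hQ0
  obtain ⟨π, hπ⟩ : ∃ π : Proj z y ↥Hb, ∀ c : ↥(cc z y), ((π.ψ c : X)) = T.φ ⟨c, c.2.2⟩ := D.exists_proj T
  have hQmap : (P.Qb π).map Hb.subtype = Q0.map T.φ := by
    ext x
    constructor
    · rintro ⟨-, ⟨c, hc, rfl⟩, rfl⟩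
      exact ⟨⟨c, c.2.2⟩, ⟨hc, c.2.2⟩, (hπ c).symm⟩
    · rintro ⟨q, hq, rfl⟩
      let c : ↥(cc z y) := ⟨q, mem_cc.2 ⟨D.S.qz hq.1, mem_centralizer_singleton_iff.1 q.2⟩⟩
      exact ⟨π.ψ c, mem_map_of_mem π.ψ (x := c) hq.1, hπ c⟩
  have hQ4 : ∀ q ∈ Q0, ((q : ↥W) : G) ^ 4 = 1 := fun q hq => D.q_pow_four hq.1
  obtain ⟨j, c2, S2, e2⟩ := P.fac_two π
  obtain ⟨j', c3, S3, e3⟩ := P.fac_three π
  refine ⟨Parts.fac π P.R2 P.A2, Parts.fac π P.R3 P.A3, P.Qb π, P.closure_odd π, (P.fac_normal π).1,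
    (P.fac_normal π).2, ⟨(MulEquiv.subgroupCongr e2.symm).trans S2.equiv⟩,
    ⟨(MulEquiv.subgroupCongr e3.symm).trans S3.equiv⟩, ?_, P.Qb_normal π, (P.pCore_sup π).symm,
    P.genFitting π, ?_, (Parts.card_image D π).trans (by norm_num), ?_⟩
  · rw [P.fac_meet π, MonoidHom.map_zpowers]
    exact congrArg zpowers (hπ P.Zc)
  · obtain ⟨g, hgy, hgz⟩ := D.exists_fuse
    let gw : ↥W := ⟨g, mem_centralizer_singleton_iff.2 hgy⟩
    let aw : ↥W := ⟨a, mem_centralizer_singleton_iff.2 D.ya.symm⟩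
    have he : T.φ gw * T.φ D.zw * (T.φ gw)⁻¹ = T.φ aw := by
      rw [← map_inv, ← map_mul, ← map_mul]
      exact congrArg T.φ (Subtype.ext hgz)
    let ac : ↥(cc z y) := ⟨a, mem_cc.2 ⟨D.S.qz D.S.mem_a, D.ya.symm⟩⟩
    refine ⟨T.φ gw, ⟨he ▸ (hπ ac) ▸ (π.ψ ac).2, ?_⟩, ?_⟩
    · exact ⟨ac, D.S.mem_a, Subtype.ext ((hπ ac).trans he.symm)⟩
    · intro e
      have h := D.lift_eq T (g := gw) (q := D.zw) (D.q_pow_four D.h.z_mem) e
      have ha : a = z := hgz.symm.trans h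
      have h1 := congrArg D.S.F.vec ha
      rw [D.S.F.vec_a, D.S.F.vec_z] at h1
      exact absurd h1 (by decide)
  · intro x hxQ hxz
    obtain ⟨g, rfl⟩ := T.surj x
    rw [hQmap] at hxQ ⊢
    obtain ⟨q, hq, hqe⟩ := hxQ
    have hgz : (g : G) * z * (g : G)⁻¹ = q := D.lift_eq T (hQ4 q hq) hqe.symm
    have hne : (g : G) * z * (g : G)⁻¹ ≠ z := fun e => hxz (by
      rw [← hqe]
      exact congrArg T.φ (Subtype.ext (hgz.symm.trans e)))
    have h4 := D.inter_four (mem_centralizer_singleton_iff.1 g.2) (hgz ▸ hq.1) hne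
    set I := Q0 ⊓ Q0.map (MulAut.conj g).toMonoidHom with hI
    have hconj : ∀ (k : ↥W) (v : ↥W), v ^ 4 = 1 → (MulAut.conj k v) ^ 4 = 1 := fun k v hv => by
      rw [← map_pow, hv, map_one]
    have hQ4' : ∀ q ∈ Q0, q ^ 4 = (1 : ↥W) := fun q hq => Subtype.ext (hQ4 q hq)
    have heq : Q0.map T.φ ⊓ (Q0.map T.φ).map (MulAut.conj (T.φ g)).toMonoidHom = I.map T.φ := by
      refine le_antisymm ?_ (le_inf (map_mono inf_le_left) ?_)
      · rintro _ ⟨⟨u, hu, rfl⟩, ⟨-, ⟨v, hv, rfl⟩, hev⟩⟩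
        have e' : T.φ u = T.φ (MulAut.conj g v) := by
          rw [← hev, MulAut.conj_apply, map_mul, map_mul, map_inv]
          rfl
        have huv := D.quot_inj T (hQ4 u hu) (congrArg Subtype.val (hconj g v (hQ4' v hv))) e'
        exact mem_map_of_mem _ ⟨hu, huv ▸ mem_map_of_mem _ hv⟩
      · rintro _ ⟨u, ⟨-, v, hv, rfl⟩, rfl⟩
        exact ⟨T.φ v, mem_map_of_mem _ hv, by simp [MulAut.conj_apply]⟩
    have hinj : Set.InjOn T.φ (I : Set ↥W) := fun u hu v hv e => D.quot_inj T (hQ4 u hu.1) (hQ4 v hv.1) e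
    have hcard : Nat.card ↥(I.map T.φ) = Nat.card ↥I := by
      rw [← SetLike.coe_sort_coe, coe_map, Nat.card_image_of_injOn hinj]
      rfl
    rw [heq, hcard, Nat.card_congr (I.equivMapOfInjective _ W.subtype_injective).toEquiv, hI, map_inf _ _ _ W.subtype_injective,
      map_map, show W.subtype.comp (MulAut.conj g).toMonoidHom = (MulAut.conj (g : G)).toMonoidHom.comp W.subtype
        from MonoidHom.ext fun _ => rfl, ← map_map, hQ0, map_subgroupOf_eq_of_le inf_le_right]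
    exact h4

end Su

end Cfsg.Agent.SuzukiThree
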