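import Cfsg.Agent.Lib.SuzukiThree.Perfect
import Cfsg.Agent.Lib.Classical.UnitarySimple
import Cfsg.Prelude.Def_CaseTheorems

/-!
The centralizer of the element of order three is a triple cover, given the recognition of the quotient.
-/

set_option autoImplicit false
set_option maxRecDepth 8000
set_option synthInstance.maxSize 4096

namespace Cfsg.Agent.SuzukiThree

open Subgroup Cfsg.Agent.LargeExtra Cfsg.Agent.OctadInv.Orbits Cfsg.Agent.SuzukiType

/-- What is needed from the model. -/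
def ModelRoot (P : Type*) [Group P] : Prop :=
  ∃ zc t i : P, orderOf zc = 2 ∧ t ^ 3 = 1 ∧ t ≠ 1 ∧ t * zc = zc * t ∧ i * zc = zc * i ∧ i * t = t * i ∧
    i ^ 4 = 1 ∧ i ^ 2 ≠ 1 ∧ i ∈ Subgroup.closure {x : P | x * zc = zc * x ∧ Odd (orderOf x)} ∧
    t ∈ ⁅centralizer ({t} : Set P), centralizer ({t} : Set P)⁆

/-- Transport of the root data. -/
theorem root_transfer {P X : Type*} [Group P] [Group X] (f : P ≃* X) {zc : P} {zb : X} (hz : f zc = zb)
    {t i : P} (h3 : t ^ 3 = 1) (h1 : t ≠ 1) (htz : t * zc = zc * t) (hiz : i * zc = zc * i)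
    (hit : i * t = t * i) (hi4 : i ^ 4 = 1) (hi2 : i ^ 2 ≠ 1)
    (hiK : i ∈ Subgroup.closure {x : P | x * zc = zc * x ∧ Odd (orderOf x)})
    (htD : t ∈ ⁅centralizer ({t} : Set P), centralizer ({t} : Set P)⁆) : Root X zb := by
  subst hz
  refine ⟨f t, f i, by rw [← map_pow, h3, map_one], fun e => h1 (f.map_eq_one_iff.1 e),
    by rw [← map_mul, htz, map_mul], by rw [← map_mul, hiz, map_mul], by rw [← map_mul, hit, map_mul],
    by rw [← map_pow, hi4, map_one], fun e => hi2 (f.map_eq_one_iff.1 (by rw [map_pow, e])), ?_, ?_⟩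
  · have h : f i ∈ (Subgroup.closure {x : P | x * zc = zc * x ∧ Odd (orderOf x)}).map f.toMonoidHom :=
      mem_map_of_mem f.toMonoidHom hiK
    rw [MonoidHom.map_closure] at h
    refine closure_mono ?_ h
    rintro _ ⟨x, ⟨hx1, hx2⟩, rfl⟩
    exact ⟨by show f x * f zc = f zc * f x; rw [← map_mul, hx1, map_mul],
      by show Odd (orderOf (f x)); rwa [MulEquiv.orderOf_eq]⟩
  · have h : f t ∈ (⁅centralizer ({t} : Set P), centralizer ({t} : Set P)⁆).map f.toMonoidHom :=
      mem_map_of_mem f.toMonoidHom htD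
    rw [map_commutator] at h
    have hle : (centralizer ({t} : Set P)).map f.toMonoidHom ≤ centralizer ({f t} : Set X) := by
      rintro _ ⟨x, hx, rfl⟩
      refine mem_centralizer_singleton_iff.2 ?_
      show f x * f t = f t * f x
      rw [← map_mul, mem_centralizer_singleton_iff.1 hx, map_mul]
    exact commutator_mono hle hle h

variable {G : Type*} [Group G] [Finite G] {Q Q' : Subgroup G} {z a y : G}

/-- The conclusion, for subgroups equal to `C(y)` and `⟨y⟩`. -/
theorem Su.conclusion (D : Su Q Q' z a y) (W Y0 : Subgroup G) (hW : W = centralizer ({y} : Set G))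
    (hY0 : Y0 = zpowers y) [(Y0.subgroupOf W).Normal] {M : Type*} [Group M] [IsSimpleGroup M]
    (hroot : ModelRoot M)
    (hrec : ∀ zb : ↥W ⧸ Y0.subgroupOf W, UType (↥W ⧸ Y0.subgroupOf W) zb →
      Nonempty ((↥W ⧸ Y0.subgroupOf W) ≃* M) ∧
        ∀ u v : ↥W ⧸ Y0.subgroupOf W, orderOf u = 2 → orderOf v = 2 → IsConj u v) :
    Cfsg.IsQuasisimple ↥W ∧ Nonempty ((↥W ⧸ Y0.subgroupOf W) ≃* M) ∧
      W.relIndex (normalizer (Y0 : Set G)) = 2 := by
  subst hW hY0
  set W := centralizer ({y} : Set G) with hW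
  let T : Quot y (↥W ⧸ (zpowers y).subgroupOf W) :=
    { φ := QuotientGroup.mk' _
      surj := QuotientGroup.mk'_surjective _
      ker := fun x => (QuotientGroup.eq_one_iff x).trans mem_subgroupOf }
  have hU := D.quot_uType T
  obtain ⟨⟨e⟩, hconj⟩ := hrec _ hU
  obtain ⟨zc, t, i, hzc, h3, h1, htz, hiz, hit, hi4, hi2, hiK, htD⟩ := hroot
  obtain ⟨g, hg⟩ := isConj_iff.1 (hconj (e.symm zc) _ (by rw [MulEquiv.orderOf_eq, hzc]) (D.zb_two T))
  have hr : Root _ (T.φ D.zw) :=
    root_transfer (e.symm.trans (MulAut.conj g)) hg h3 h1 htz hiz hit hi4 hi2 hiK htD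
  haveI : IsSimpleGroup (↥W ⧸ (zpowers y).subgroupOf W) := e.isSimpleGroup
  have hnc : ¬ IsMulCommutative (↥W ⧸ (zpowers y).subgroupOf W) := fun hc => by
    obtain ⟨-, -, -, -, -, -, -, -, -, -, -, -, ⟨g', -, hg'⟩, -, -⟩ := hU.hyp
    exact hg' (by rw [hc.is_comm.comm g' (T.φ D.zw), mul_inv_cancel_right])
  obtain ⟨hperf, hcent⟩ := D.perfect T hnc hr
  have hcent' : Subgroup.center ↥W = (zpowers y).subgroupOf W := by
    rw [hcent]
    exact QuotientGroup.ker_mk' _
  refine ⟨⟨⟨hperf⟩, ((QuotientGroup.quotientMulEquivOfEq hcent').trans e).isSimpleGroup⟩, ⟨e⟩, D.relIndex_two⟩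

end Cfsg.Agent.SuzukiThree
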