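import Cfsg.Agent.Lib.SuzukiThree.Centralizer

/-!
The two factors of the centralizer of the element of order three in `C(z)`.
-/

set_option autoImplicit false
set_option maxRecDepth 8000
set_option synthInstance.maxSize 4096

namespace Cfsg.Agent.SuzukiThree

open Subgroup Cfsg.Agent.LargeExtra Cfsg.Agent.OctadInv.Orbits Cfsg.Agent.SuzukiType

variable {G : Type*} [Group G] [Finite G] {Q Q' : Subgroup G} {z a y : G}

/-- Generators of the two factors. -/
structure Parts (D : Su Q Q' z a y) where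
  a2 : G
  a3 : G
  r2 : G
  r3 : G
  a2z : a2 * z = z * a2
  a3z : a3 * z = z * a3
  a2y : a2 * y = y * a2
  a3y : a3 * y = y * a3
  a23 : a2 * a3 = a3 * a2
  a2p : a2 ^ 3 = 1
  a3p : a3 ^ 3 = 1
  act2 : D.S.act' a2 = o2
  act3 : D.S.act' a3 = o3
  r2Q : r2 ∈ Q
  r3Q : r3 ∈ Q
  vr2 : D.S.F.vec r2 = u1
  vr3 : D.S.F.vec r3 = u3

theorem o_pow_four : o2 ^ 4 = o2 ∧ o3 ^ 4 = o3 ∧ o1 ^ 3 = 1 ∧ o2 ^ 3 = 1 ∧ o3 ^ 3 = 1 := by
  have h2 : o2 ^ 3 = 1 := ext_act fun v => by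
    rw [act_pow, iterate_congr (fun w => (o_act w).2.1), act_one]; exact (tau_three v).2.1
  have h3 : o3 ^ 3 = 1 := ext_act fun v => by
    rw [act_pow, iterate_congr (fun w => (o_act w).2.2.1), act_one]; exact (tau_three v).2.2.1
  have h1 : o1 ^ 3 = 1 := ext_act fun v => by
    rw [act_pow, iterate_congr (fun w => (o_act w).1), act_one]; exact (tau_three v).1
  exact ⟨by rw [pow_succ, h2, one_mul], by rw [pow_succ, h3, one_mul], h1, h2, h3⟩

theorem comm_o23 : o3 * o2 * o3⁻¹ = o2 := by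
  rw [mul_inv_eq_iff_eq_mul]
  exact ext_act fun v => by simp only [act_mul, (o_act _).2.1, (o_act _).2.2.1, (commutes v).2.2.2.2.1]

namespace Su

variable (D : Su Q Q' z a y)
include D

theorem act'_pow {c : G} (hc : c * z = z * c) (n : ℕ) : D.S.act' (c ^ n) = D.S.act' c ^ n := by
  induction n with
  | zero => rw [pow_zero, pow_zero, D.S.act'_q Q.one_mem]
  | succ n ih => rw [pow_succ, pow_succ, D.S.act'_mul ((show Commute c z from hc).pow_left n).eq hc, ih]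

theorem q_pow_four {x : G} (hx : x ∈ Q) : x ^ 4 = 1 := by
  have h2 := D.h.sq_cases hx
  rw [show x ^ 4 = (x * x) * (x * x) by simp [pow_succ, mul_assoc]]
  rcases h2 with e | e <;> rw [e]
  · exact one_mul 1
  · exact D.h.zz

/-- Replacing a lift by one of order three. -/
theorem three_of_lift {c : G} {A : O6} (hc : c * z = z * c) (hA : D.S.act' c = A) (hA3 : A ^ 3 = 1) :
    (c ^ 4) ^ 3 = 1 ∧ D.S.act' (c ^ 4) = A := by
  refine ⟨?_, by rw [D.act'_pow hc, hA, pow_succ, hA3, one_mul]⟩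
  have h3 : c ^ 3 ∈ Q := (D.S.act'_one_iff ((show Commute c z from hc).pow_left 3).eq).1 (by
    rw [D.act'_pow hc, hA, hA3])
  rw [← pow_mul, show 4 * 3 = 3 * 4 by norm_num, pow_mul, D.q_pow_four h3]

theorem exists_parts : Nonempty (Parts D) := by
  obtain ⟨c, hcz, hcy, hcA⟩ := D.exists_cent o_mem.2.1 (fun v => by
    rw [(o_act _).2.1, (o_act _).2.1, (commutes v).1])
  obtain ⟨hc3, hc4⟩ := D.three_of_lift hcz hcA o_pow_four.2.2.2.1
  have hbz : c ^ 4 * z = z * c ^ 4 := ((show Commute c z from hcz).pow_left 4).eq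
  have hby : c ^ 4 * y = y * c ^ 4 := ((show Commute c y from hcy).pow_left 4).eq
  obtain ⟨d0, hd0z, hd0y, hd0A⟩ := D.exists_cent o_mem.2.2.1 (fun v => by
    rw [(o_act _).2.2.1, (o_act _).2.2.1, (commutes v).2.1])
  obtain ⟨d, hdz, hdy, hdA, hdc⟩ := D.exists_lift (centralizer ({y} : Set G)) hc3 hbz
    (mem_centralizer_singleton_iff.2 hby) hc3 hbz (mem_centralizer_singleton_iff.2 hby) hd0z
    (mem_centralizer_singleton_iff.2 hd0y) hd0A (by rw [hc4, comm_o23])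
  obtain ⟨hd3, hd4⟩ := D.three_of_lift hdz hdA o_pow_four.2.2.2.2
  obtain ⟨r2, hr2, hv2⟩ := D.S.F.surj u1
  obtain ⟨r3, hr3, hv3⟩ := D.S.F.surj u3
  exact ⟨{ a2 := c ^ 4, a3 := d ^ 4, r2 := r2, r3 := r3
           a2z := hbz, a3z := ((show Commute d z from hdz).pow_left 4).eq
           a2y := hby, a3y := ((show Commute d y from mem_centralizer_singleton_iff.1 hdy).pow_left 4).eq
           a23 := ((show Commute d (c ^ 4) from mul_inv_eq_iff_eq_mul.1 hdc).pow_left 4).eq.symm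
           a2p := hc3, a3p := hd3, act2 := hc4, act3 := hd4
           r2Q := hr2, r3Q := hr3, vr2 := hv2, vr3 := hv3 }⟩

end Su

namespace Parts

variable {D : Su Q Q' z a y} (P : Parts D)
include P

/-- The second generator of the quaternion group. -/
def s2 : G := P.a2 * P.r2 * P.a2⁻¹

/-- The second generator of the other quaternion group. -/
def s3 : G := P.a3 * P.r3 * P.a3⁻¹

theorem s2Q : P.s2 ∈ Q := D.h.conj_mem P.a2z P.r2Q

theorem s3Q : P.s3 ∈ Q := D.h.conj_mem P.a3z P.r3Q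

theorem vs2 : D.S.F.vec P.s2 = tau2 u1 := by
  rw [s2, D.S.vec_conj P.a2z P.r2Q, P.act2, P.vr2, (o_act _).2.1]

theorem vs3 : D.S.F.vec P.s3 = tau3 u3 := by
  rw [s3, D.S.vec_conj P.a3z P.r3Q, P.act3, P.vr3, (o_act _).2.2.1]

theorem comm_of_fixed {b x : G} (hb : b ^ 3 = 1) (hbz : b * z = z * b) (hx : x ∈ Q)
    (he : act (D.S.act' b) (D.S.F.vec x) = D.S.F.vec x) : b * x = x * b :=
  fixed_comm D.h D.S.F hb hbz hx (by rw [D.S.vec_conj hbz hx, he])

theorem cross : P.a2 * P.r3 = P.r3 * P.a2 ∧ P.a2 * P.s3 = P.s3 * P.a2 ∧ P.a3 * P.r2 = P.r2 * P.a3 ∧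
    P.a3 * P.s2 = P.s2 * P.a3 ∧ P.r2 * P.r3 = P.r3 * P.r2 := by
  obtain ⟨-, -, -, -, e3, e1, b13, -, -, -, -, -, e3', e1'⟩ := plane_facts
  refine ⟨P.comm_of_fixed P.a2p P.a2z P.r3Q ?_, P.comm_of_fixed P.a2p P.a2z P.s3Q ?_,
    P.comm_of_fixed P.a3p P.a3z P.r2Q ?_, P.comm_of_fixed P.a3p P.a3z P.s2Q ?_, ?_⟩
  · rw [P.act2, P.vr3, (o_act _).2.1, e3]
  · rw [P.act2, P.vs3, (o_act _).2.1, e3']
  · rw [P.act3, P.vr2, (o_act _).2.2.1, e1]
  · rw [P.act3, P.vs2, (o_act _).2.2.1, e1']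
  · rw [D.S.comm_iff P.r2Q P.r3Q, P.vr2, P.vr3, b13]

theorem r_sq : P.r2 * P.r2 = z ∧ P.r3 * P.r3 = z := by
  constructor
  · rw [D.S.F.sq P.r2Q, P.vr2, planes.1, zp_one]
  · rw [D.S.F.sq P.r3Q, P.vr3, planes.2.2.1, zp_one]

omit [Finite G] P in
/-- The relations of one factor. -/
theorem factor_rel {D : Su Q Q' z a y} {b r : G} {f : V → V} {u : V} (hbz : b * z = z * b) (hr : r ∈ Q)
    (hv : D.S.F.vec r = u) (hact : ∀ v, act (D.S.act' b) v = f v) (hbf : bf u (f u) = 1)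
    (hff : f (f u) = u + f u) :
    b * r * b⁻¹ * r = z * (r * (b * r * b⁻¹)) ∧
    (b * (b * r * b⁻¹) * b⁻¹ = r * (b * r * b⁻¹) ∨ b * (b * r * b⁻¹) * b⁻¹ = b * r * b⁻¹ * r) := by
  set s := b * r * b⁻¹ with hs
  have hsQ : s ∈ Q := D.S.h.conj_mem hbz hr
  have hvs : D.S.F.vec s = f u := by rw [hs, D.S.vec_conj hbz hr, hv, hact]
  have h1 : s * r = z * (r * s) := by
    rw [D.S.F.comm hsQ hr, hvs, hv, SuzukiType.bf_comm, hbf, zp_one]
  refine ⟨h1, ?_⟩
  have hkQ : b * s * b⁻¹ ∈ Q := D.S.h.conj_mem hbz hsQ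
  have h0 : D.S.F.vec (b * s * b⁻¹ * (r * s)⁻¹) = 0 := by
    rw [D.S.F.vec_mul hkQ (Q.inv_mem (Q.mul_mem hr hsQ)), D.S.vec_inv (Q.mul_mem hr hsQ),
      D.S.F.vec_mul hr hsQ, D.S.vec_conj hbz hsQ, hvs, hv, hact, hff, add_self_V]
  rcases D.S.F.vec_cases (Q.mul_mem hkQ (Q.inv_mem (Q.mul_mem hr hsQ))) h0 with e | e
  · exact Or.inl (mul_inv_eq_one.1 e)
  · exact Or.inr (by rw [mul_inv_eq_iff_eq_mul.1 e, h1])

/-- The group generated by both factors and `y`. -/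
def M : Subgroup G := closure {P.r2, P.r3, P.a2, P.a3, y}

theorem z_mem_M : z ∈ P.M := by
  have h : P.r2 * P.r2 ∈ P.M := mul_mem (subset_closure (by simp)) (subset_closure (by simp))
  exact (congrArg (fun g => g ∈ P.M) P.r_sq.1).mp h

theorem s_mem_M : P.s2 ∈ P.M ∧ P.s3 ∈ P.M :=
  ⟨mul_mem (mul_mem (subset_closure (by simp)) (subset_closure (by simp))) (inv_mem (subset_closure (by simp))),
   mul_mem (mul_mem (subset_closure (by simp)) (subset_closure (by simp))) (inv_mem (subset_closure (by simp)))⟩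

theorem CQ_le_M {x : G} (hx : x ∈ Q) (hxy : x * y = y * x) : x ∈ P.M := by
  obtain ⟨c1, c2, c3, c4, hv⟩ := span_planes _ ((D.comm_iff_InX hx).1 hxy.symm)
  set p := zp P.r2 c1 * zp P.s2 c2 * (zp P.r3 c3 * zp P.s3 c4) with hp
  have hz : ∀ {g : G}, g ∈ Q → ∀ t, zp g t ∈ Q ∧ D.S.F.vec (zp g t) = sm t (D.S.F.vec g) := fun {g} hg t => by
    refine ⟨Q.pow_mem hg _, ?_⟩
    rcases z2 t with rfl | rfl
    · rw [zp_zero, D.S.F.vec_one, SuzukiType.sm_zero]
    · rw [zp_one, sm_one]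
  have ha := hz P.r2Q c1
  have hb := hz P.s2Q c2
  have hc := hz P.r3Q c3
  have hd := hz P.s3Q c4
  have hpQ : p ∈ Q := Q.mul_mem (Q.mul_mem ha.1 hb.1) (Q.mul_mem hc.1 hd.1)
  have hpv : D.S.F.vec p = D.S.F.vec x := by
    rw [hp, D.S.F.vec_mul (Q.mul_mem ha.1 hb.1) (Q.mul_mem hc.1 hd.1), D.S.F.vec_mul ha.1 hb.1,
      D.S.F.vec_mul hc.1 hd.1, ha.2, hb.2, hc.2, hd.2, P.vr2, P.vs2, P.vr3, P.vs3, hv]
  have hpM : p ∈ P.M := mul_mem (mul_mem (pow_mem (subset_closure (by simp)) _) (pow_mem P.s_mem_M.1 _))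
    (mul_mem (pow_mem (subset_closure (by simp)) _) (pow_mem P.s_mem_M.2 _))
  rcases D.S.F.vec_cases (Q.mul_mem hx (Q.inv_mem hpQ)) (by
    rw [D.S.F.vec_mul hx (Q.inv_mem hpQ), D.S.vec_inv hpQ, hpv, add_self_V]) with e | e
  · rw [mul_inv_eq_one.1 e]; exact hpM
  · rw [mul_inv_eq_iff_eq_mul.1 e]; exact mul_mem P.z_mem_M hpM

theorem M_le {g : G} (hg : g ∈ P.M) : g * z = z * g ∧ g * y = y * g := by
  have : P.M ≤ centralizer ({z} : Set G) ⊓ centralizer ({y} : Set G) := by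
    refine (closure_le _).2 ?_
    rintro x (rfl | rfl | rfl | rfl | rfl) <;>
      refine ⟨mem_centralizer_singleton_iff.2 ?_, mem_centralizer_singleton_iff.2 ?_⟩
    · exact D.S.qz P.r2Q
    · exact ((D.comm_iff_InX P.r2Q).2 (by rw [P.vr2]; decide)).symm
    · exact D.S.qz P.r3Q
    · exact ((D.comm_iff_InX P.r3Q).2 (by rw [P.vr3]; decide)).symm
    · exact P.a2z
    · exact P.a2y
    · exact P.a3z
    · exact P.a3y
    · exact D.yz
    · rfl
  exact ⟨mem_centralizer_singleton_iff.1 (this hg).1, mem_centralizer_singleton_iff.1 (this hg).2⟩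

/-- Elements acting as products of the rotations lie in `M`. -/
theorem mem_M {c : G} (hcz : c * z = z * c) (hcy : c * y = y * c) {m i j : Fin 3}
    (hact : ∀ v, act (D.S.act' c) v = tau^[m] (tau2^[i] (tau3^[j] v))) :
    c ∈ P.M ∧ c * (y ^ (m : ℕ) * P.a2 ^ (i : ℕ) * P.a3 ^ (j : ℕ))⁻¹ ∈ Q := by
  set b := y ^ (m : ℕ) * P.a2 ^ (i : ℕ) * P.a3 ^ (j : ℕ) with hb
  have h1 : y ^ (m : ℕ) * z = z * y ^ (m : ℕ) := ((show Commute y z from D.yz).pow_left _).eq
  have h2 : P.a2 ^ (i : ℕ) * z = z * P.a2 ^ (i : ℕ) := ((show Commute P.a2 z from P.a2z).pow_left _).eq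
  have h3 : P.a3 ^ (j : ℕ) * z = z * P.a3 ^ (j : ℕ) := ((show Commute P.a3 z from P.a3z).pow_left _).eq
  have hbz : b * z = z * b := SuzukiType.mul_z (SuzukiType.mul_z h1 h2) h3
  have hbA : D.S.act' b = D.S.act' c := ext_act fun v => by
    rw [hact, hb, D.S.act'_mul (SuzukiType.mul_z h1 h2) h3, D.S.act'_mul h1 h2, D.act'_pow D.yz,
      D.act'_pow P.a2z, D.act'_pow P.a3z, D.act_eq_o1, P.act2, P.act3, act_mul, act_mul, act_pow, act_pow, act_pow,
      iterate_congr (fun w => (o_act w).1), iterate_congr (fun w => (o_act w).2.1),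
      iterate_congr (fun w => (o_act w).2.2.1)]
  have hbM : b ∈ P.M := mul_mem (mul_mem (pow_mem (subset_closure (by simp)) _) (pow_mem (subset_closure (by simp)) _))
    (pow_mem (subset_closure (by simp)) _)
  have hQ : c * b⁻¹ ∈ Q := (D.S.act'_one_iff (SuzukiType.mul_z hcz (inv_z hbz))).1 (by
    rw [D.S.act'_mul hcz (inv_z hbz), D.S.act'_inv hbz, hbA, mul_inv_cancel])
  refine ⟨?_, hQ⟩
  rw [show c = c * b⁻¹ * b by group]
  exact mul_mem (P.CQ_le_M hQ (SuzukiType.mul_z hcy (inv_z (P.M_le hbM).2))) hbM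

theorem tau_comm (m : Fin 3) (i j : Fin 3) (k l : Fin 2) (v : V) :
    L i j k l (tau^[m] v) = tau^[m] (L i j k l v) := by
  have hc : Function.Commute (L i j k l) tau := fun w => by
    unfold L
    rw [← (Function.Commute.iterate_right (show Function.Commute tau swp from fun w => (commutes w).2.2.2.1) _) w,
      ← (Function.Commute.iterate_right (show Function.Commute tau sig from fun w => (commutes w).2.2.1) _) _,
      ← (Function.Commute.iterate_right (show Function.Commute tau tau3 from fun w => (commutes w).2.1) _) _,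
      ← (Function.Commute.iterate_right (show Function.Commute tau tau2 from fun w => (commutes w).1) _) _]
  exact (hc.iterate_right _) v

/-- Elements of odd order lie in `M`. -/
theorem odd_mem {c : G} (hcz : c * z = z * c) (hcy : c * y = y * c) (hodd : Odd (orderOf c)) : c ∈ P.M := by
  obtain ⟨m, i, j, k, l, hv⟩ := D.act_cases hcz hcy
  obtain ⟨i', j', hsq⟩ := L_sq i j k l
  have hm : ∀ m : Fin 3, ∀ v : V, tau^[m] (tau^[m] v) = tau^[((m + m : Fin 3) : ℕ)] v := by decide +kernel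
  have h2 : c * c ∈ P.M := (P.mem_M (SuzukiType.mul_z hcz hcz) (SuzukiType.mul_z hcy hcy)
    (m := m + m) (i := i') (j := j') fun v => by
      rw [D.S.act'_mul hcz hcz, act_mul, hv, hv, P.tau_comm, hsq, hm]).1
  obtain ⟨n, hn⟩ := hodd
  have : c = (c * c) ^ (n + 1) := by
    rw [← pow_two, ← pow_mul, show 2 * (n + 1) = orderOf c + 1 by omega, pow_succ, pow_orderOf_eq_one, one_mul]
  rw [this]
  exact pow_mem h2 _

end Parts

end Cfsg.Agent.SuzukiThree
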