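import Cfsg.Agent.Lib.SuzukiThree.Global

/-!
`C(y)` does not split over the element of order three.
-/

set_option autoImplicit false
set_option maxRecDepth 8000
set_option synthInstance.maxSize 4096

namespace Cfsg.Agent.SuzukiThree

open Subgroup Cfsg.Agent.LargeExtra Cfsg.Agent.OctadInv.Orbits Cfsg.Agent.SuzukiType

/-- An element lying in the commutator subgroup of its centralizer. -/
def InDer {H : Type*} [Group H] (t : H) : Prop :=
  t ∈ ⁅centralizer ({t} : Set H), centralizer ({t} : Set H)⁆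

theorem inDer_pow {H : Type*} [Group H] {t : H} (h : InDer t) (n : ℕ) : InDer (t ^ n) := by
  have hle : centralizer ({t} : Set H) ≤ centralizer ({t ^ n} : Set H) := fun x hx =>
    mem_centralizer_singleton_iff.2 ((show Commute x t from mem_centralizer_singleton_iff.1 hx).pow_right n).eq
  exact commutator_mono hle hle (pow_mem h n)

theorem inDer_conj {H : Type*} [Group H] {t : H} (h : InDer t) (g : H) : InDer (g * t * g⁻¹) := by
  have hle : (centralizer ({t} : Set H)).map (MulAut.conj g).toMonoidHom ≤ centralizer ({g * t * g⁻¹} : Set H) := by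
    rintro _ ⟨x, hx, rfl⟩
    refine mem_centralizer_singleton_iff.2 ?_
    show g * x * g⁻¹ * (g * t * g⁻¹) = g * t * g⁻¹ * (g * x * g⁻¹)
    calc g * x * g⁻¹ * (g * t * g⁻¹) = g * (x * t) * g⁻¹ := by group
      _ = g * (t * x) * g⁻¹ := by rw [mem_centralizer_singleton_iff.1 hx]
      _ = _ := by group
  refine commutator_mono hle hle ?_
  rw [← map_commutator]
  exact ⟨t, h, rfl⟩

theorem inDer_of_conj {H : Type*} [Group H] {t g : H} (h : InDer (g * t * g⁻¹)) : InDer t := by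
  have h' := inDer_conj h g⁻¹
  rwa [show g⁻¹ * (g * t * g⁻¹) * g⁻¹⁻¹ = t by group] at h'

variable {G : Type*} [Group G] [Finite G] {Q Q' : Subgroup G} {z a y : G}

/-- The element of the model needed for non-splitting. -/
def Root (X : Type*) [Group X] (zb : X) : Prop :=
  ∃ t i : X, t ^ 3 = 1 ∧ t ≠ 1 ∧ t * zb = zb * t ∧ i * zb = zb * i ∧ i * t = t * i ∧
    i ^ 4 = 1 ∧ i ^ 2 ≠ 1 ∧ i ∈ Subgroup.closure {x : X | x * zb = zb * x ∧ Odd (orderOf x)} ∧
    InDer t

namespace Su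

variable (D : Su Q Q' z a y) {X : Type*} [Group X] (T : Quot y X)
include D

set_option maxHeartbeats 1000000 in
/-- The image of one of the rotations lies in the commutator of its centralizer. -/
theorem inDer_rot (P : Parts D) (hr : Root X (T.φ D.zw)) :
    InDer (T.φ ⟨P.a2, mem_centralizer_singleton_iff.2 P.a2y⟩) := by
  classical
  obtain ⟨t, i, ht3, ht1, htz, hiz, hit, hi4, hi2, hiK, htD⟩ := hr
  set Hb := centralizer ({T.φ D.zw} : Set X) with hHb
  obtain ⟨π, hπ⟩ : ∃ π : Proj z y ↥Hb, ∀ c : ↥(cc z y), ((π.ψ c : X)) = T.φ ⟨c, c.2.2⟩ := D.exists_proj T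
  let tH : ↥Hb := ⟨t, mem_centralizer_singleton_iff.2 htz⟩
  let iH : ↥Hb := ⟨i, mem_centralizer_singleton_iff.2 hiz⟩
  have htK : tH ∈ Parts.fac π P.R2 P.A2 ⊔ Parts.fac π P.R3 P.A3 := by
    rw [P.closure_odd π]
    exact subset_closure (Odd.of_dvd_nat (by decide : Odd 3) (orderOf_dvd_of_pow_eq_one (Subtype.ext ht3)))
  have hiK' : iH ∈ Parts.fac π P.R2 P.A2 ⊔ Parts.fac π P.R3 P.A3 := by
    rw [P.closure_odd π]
    have hle : Subgroup.closure {x : X | x * T.φ D.zw = T.φ D.zw * x ∧ Odd (orderOf x)} ≤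
        (Subgroup.closure {x : ↥Hb | Odd (orderOf x)}).map Hb.subtype := by
      refine (closure_le _).2 fun x hx => ⟨⟨x, mem_centralizer_singleton_iff.2 hx.1⟩, subset_closure ?_, rfl⟩
      show Odd (orderOf (⟨x, _⟩ : ↥Hb))
      rw [Subgroup.orderOf_mk]
      exact hx.2
    obtain ⟨u, hu, hue⟩ := hle hiK
    rwa [show iH = u from Subtype.ext hue.symm]
  obtain ⟨q, hq0, hqe⟩ := P.two_mem π hiK' ⟨2, Subtype.ext hi4⟩
  have hq : (q : G) ∈ Q := hq0
  rw [P.sup_eq π] at htK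
  obtain ⟨c, hc, hce⟩ := htK
  have hcM : (c : G) ∈ P.M := hc
  have hcz := (mem_cc.1 c.2).1
  have hcy := (mem_cc.1 c.2).2
  have hc3 : (c : G) ^ 3 = 1 := by
    have h1 : π.ψ (c ^ 3) = 1 := by rw [map_pow, hce]; exact Subtype.ext ht3
    exact (D.eq_of_ypow (one_pow 4) (D.q_pow_four (P.cube_mem hcM)) (by rw [one_mul, mul_one])
      (by rw [inv_one, one_mul]; exact (π.ker _).1 h1)).symm
  obtain ⟨m0, i0, j0, k, l, hv0⟩ := D.act_cases hcz hcy
  obtain ⟨i', j', hsq⟩ := L_sq i0 j0 k l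
  set m : Fin 3 := m0 + m0 with hm0
  have hd : ∀ v, act (D.S.act' ((c : G) * c)) v = tau^[m] (L i' j' 0 0 v) := fun v => by
    have hm : ∀ m : Fin 3, ∀ v : V, tau^[m] (tau^[m] v) = tau^[((m + m : Fin 3) : ℕ)] v := by decide +kernel
    rw [D.S.act'_mul hcz hcz, act_mul, hv0, hv0, P.tau_comm, hsq, hm]
    rfl
  let yc : ↥(cc z y) := ⟨y, mem_cc.2 ⟨D.yz, rfl⟩⟩
  set d : ↥(cc z y) := c * c * (yc ^ (m : ℕ))⁻¹ with hd0
  have hψd : π.ψ d = tH ^ 2 := by
    rw [hd0, map_mul, map_inv, map_pow, (π.ker yc).2 (mem_zpowers y), one_pow, inv_one, mul_one, map_mul, hce,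
      pow_two]
  have hd3 : (d : G) ^ 3 = 1 := by
    have hcy' : Commute ((c : G) * c) (y ^ (m : ℕ))⁻¹ :=
      ((show Commute ((c : G) * c) y from SuzukiType.mul_z hcy hcy).pow_right _).inv_right
    show ((c : G) * c * (y ^ (m : ℕ))⁻¹) ^ 3 = 1
    rw [hcy'.mul_pow, inv_pow, ← pow_mul, mul_comm (m : ℕ), pow_mul, D.y3, one_pow, inv_one, mul_one,
      ← pow_two, ← pow_mul, mul_comm, pow_mul, hc3, one_pow]
  have hdz := (mem_cc.1 d.2).1
  have hdy := (mem_cc.1 d.2).2
  have hdact : ∀ v, act (D.S.act' (d : G)) v = tau2^[i'] (tau3^[j'] v) := fun v => by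
    have hyz : y ^ (m : ℕ) * z = z * y ^ (m : ℕ) := ((show Commute y z from D.yz).pow_left _).eq
    show act (D.S.act' ((c : G) * c * (y ^ (m : ℕ))⁻¹)) v = _
    rw [D.S.act'_mul (SuzukiType.mul_z hcz hcz) (inv_z hyz), D.S.act'_inv hyz, act_mul, hd, ← P.tau_comm]
    have e : tau^[m] (act (D.S.act' (y ^ (m : ℕ)))⁻¹ v) = v := by
      rw [← iterate_congr (fun w => (o_act w).1), ← SuzukiThree.act_pow, D.act'_pow D.yz, D.act_eq_o1,
        ← act_mul, mul_inv_cancel, act_one]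
    rw [e]
    rfl
  have h4 : ∀ {x : G}, x ^ 3 = 1 → x ^ 4 = 1 → x = 1 := fun h h' => by
    rwa [pow_succ, h, one_mul] at h'
  have hW : ∀ {g : G}, g * y = y * g → g ∈ centralizer ({y} : Set G) := fun h =>
    mem_centralizer_singleton_iff.2 h
  -- conjugates of powers of the generators
  have hpow : ∀ (b : ↥(cc z y)), (b : G) ^ 3 = 1 → ∀ n : Fin 3, n ≠ 0 →
      D.S.act' (d : G) = D.S.act' ((b : G) ^ (n : ℕ)) → InDer (T.φ ⟨b, b.2.2⟩) := by
    intro b hb3 n hn hact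
    obtain ⟨p, hp, hpW, hpe⟩ := D.conj_mod (centralizer ({y} : Set G)) (b := (b : G) ^ (n : ℕ)) (b' := (d : G))
      (by rw [← pow_mul, mul_comm, pow_mul, hb3, one_pow]) hd3 ((mem_cc.1 (b ^ (n : ℕ)).2).1) hdz
      (pow_mem b.2.2 _) d.2.2 hact
    have he : T.φ ⟨p, hpW⟩ * T.φ ⟨b, b.2.2⟩ ^ (n : ℕ) * (T.φ ⟨p, hpW⟩)⁻¹ = t ^ 2 := by
      have e1 : T.φ ⟨d, d.2.2⟩ = t ^ 2 := by
        rw [← hπ d, hψd]; rfl
      rw [← e1, ← map_pow, ← map_inv, ← map_mul, ← map_mul]
      exact congrArg T.φ (Subtype.ext hpe)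
    have h1 : InDer (T.φ ⟨b, b.2.2⟩ ^ (n : ℕ)) := inDer_of_conj (g := T.φ ⟨p, hpW⟩) (he ▸ inDer_pow htD 2)
    have h2 := inDer_pow h1 (n : ℕ)
    rw [← pow_mul] at h2
    have hb : T.φ ⟨b, b.2.2⟩ ^ ((n : ℕ) * (n : ℕ)) = T.φ ⟨b, b.2.2⟩ := by
      have e3 : T.φ ⟨b, b.2.2⟩ ^ 3 = 1 := by
        rw [← map_pow, show (⟨b, b.2.2⟩ : ↥(centralizer ({y} : Set G))) ^ 3 = 1 from Subtype.ext hb3, map_one]
      fin_cases n
      · exact absurd rfl hn
      · exact pow_one _
      · show _ ^ 4 = _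
        rw [pow_succ, e3, one_mul]
    rwa [hb] at h2
  by_cases hi' : i' = 0 <;> by_cases hj' : j' = 0
  · exfalso
    have hdQ : (d : G) ∈ Q := (D.S.act'_one_iff hdz).1 (ext_act fun v => by rw [hdact, hi', hj', act_one]; rfl)
    have hd1 : d = 1 := Subtype.ext (h4 hd3 (D.q_pow_four hdQ))
    rw [hd1, map_one] at hψd
    have ht2 : t ^ 2 = 1 := (congrArg Subtype.val hψd).symm
    rw [pow_succ, ht2, one_mul] at ht3
    exact ht1 ht3
  · have h3 := hpow P.A3 P.a3p j' hj' (ext_act fun v => by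
      show _ = act (D.S.act' (P.a3 ^ (j' : ℕ))) v
      rw [hdact, hi', D.act'_pow P.a3z, P.act3, SuzukiThree.act_pow, iterate_congr (fun w => (o_act w).2.2.1)]
      rfl)
    obtain ⟨g, hg, hgv⟩ := D.exists_swap
    obtain ⟨g0, hg0z, hg0y, hg0A⟩ := D.exists_cent hg (fun v => by rw [hgv, hgv, (commutes v).2.2.2.1])
    obtain ⟨e, he⟩ : ∃ e : ℕ, g * o2 * g⁻¹ = o3 ^ e := by
      rcases swp_conj with h | h
      · refine ⟨1, ?_⟩
        rw [mul_inv_eq_iff_eq_mul]
        exact ext_act fun v => by simp only [act_mul, pow_one, hgv, (o_act _).2.1, (o_act _).2.2.1, h]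
      · refine ⟨2, ?_⟩
        rw [mul_inv_eq_iff_eq_mul]
        exact ext_act fun v => by simp only [act_mul, pow_two, hgv, (o_act _).2.1, (o_act _).2.2.1, h]
    obtain ⟨s, hsz, hsW, -, hse⟩ := D.exists_lift (centralizer ({y} : Set G)) P.a2p P.a2z (hW P.a2y)
      (b' := P.a3 ^ e) (by rw [← pow_mul, mul_comm, pow_mul, P.a3p, one_pow])
      ((show Commute P.a3 z from P.a3z).pow_left e).eq (pow_mem (hW P.a3y) e) hg0z (hW hg0y) hg0A
      (by rw [P.act2, he, D.act'_pow P.a3z, P.act3])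
    refine inDer_of_conj (g := T.φ ⟨s, hsW⟩) ?_
    rw [← map_inv, ← map_mul, ← map_mul,
      show ((⟨s, hsW⟩ : ↥(centralizer ({y} : Set G))) * ⟨P.a2, mem_centralizer_singleton_iff.2 P.a2y⟩ * ⟨s, hsW⟩⁻¹) =
        (⟨P.a3, hW P.a3y⟩ : ↥(centralizer ({y} : Set G))) ^ e from Subtype.ext hse, map_pow]
    exact inDer_pow h3 e
  · exact hpow P.A2 P.a2p i' hi' (ext_act fun v => by
      show _ = act (D.S.act' (P.a2 ^ (i' : ℕ))) v
      rw [hdact, hj', D.act'_pow P.a2z, P.act2, SuzukiThree.act_pow, iterate_congr (fun w => (o_act w).2.1)]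
      rfl)
  · exfalso
    have hqy : (q : G) * y = y * (q : G) := (mem_cc.1 q.2).2
    have e : d * q * d⁻¹ = q := by
      refine P.psi_inj π (D.q_pow_four (D.h.conj_mem hdz hq)) (D.q_pow_four hq) ?_
      have hit' : tH ^ 2 * iH = iH * tH ^ 2 :=
        ((show Commute iH tH from Subtype.ext hit).pow_right 2).eq.symm
      rw [map_mul, map_mul, map_inv, hψd, hqe, hit', mul_inv_cancel_right]
    have e' := congrArg (fun u : ↥(cc z y) => D.S.F.vec (u : G)) e
    simp only [Subgroup.coe_mul, Subgroup.coe_inv] at e'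
    rw [D.S.vec_conj hdz hq, hdact] at e'
    have h0 := fixed_pair i' j' hi' hj' _ ((D.comm_iff_InX hq).1 hqy.symm) e'
    have hq2 : q ^ 2 = 1 := Subtype.ext (by
      show (q : G) ^ 2 = 1
      rcases D.S.F.vec_cases hq h0 with e | e <;> rw [e, pow_two]
      · exact one_mul 1
      · exact D.h.zz)
    apply hi2
    have := congrArg π.ψ hq2
    rw [map_pow, map_one, hqe] at this
    exact congrArg Subtype.val this

set_option maxHeartbeats 1000000 in
/-- `C(y)` is perfect and its centre is generated by `y`. -/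
theorem perfect [IsSimpleGroup X] (hnc : ¬ IsMulCommutative X) (hr : Root X (T.φ D.zw)) :
    commutator ↥(centralizer ({y} : Set G)) = ⊤ ∧
      Subgroup.center ↥(centralizer ({y} : Set G)) = T.φ.ker := by
  classical
  have hker : ∀ {u}, u ∈ T.φ.ker ↔ (u : G) ∈ zpowers y := fun {u} => by rw [MonoidHom.mem_ker, T.ker]
  obtain ⟨P⟩ := D.exists_parts
  set W := centralizer ({y} : Set G) with hW
  let yw : ↥W := ⟨y, mem_centralizer_singleton_iff.2 rfl⟩
  let aw : ↥W := ⟨P.a2, mem_centralizer_singleton_iff.2 P.a2y⟩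
  have hX1 : Subgroup.center X = ⊥ := (IsSimpleGroup.eq_bot_or_eq_top_of_normal _ inferInstance).resolve_right
    fun e => hnc ⟨⟨fun u v => ((mem_center_iff.1 (e ▸ mem_top u)) v).symm⟩⟩
  have hX2 : commutator X = ⊤ := (IsSimpleGroup.eq_bot_or_eq_top_of_normal _ inferInstance).resolve_left fun e => by
    rw [_root_.commutator_def, commutator_eq_bot_iff_le_centralizer] at e
    exact hnc ⟨⟨fun u v => (mem_centralizer_iff.1 (e (mem_top u)) v (mem_top v)).symm⟩⟩
  have hmap : (commutator ↥W).map T.φ = ⊤ := by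
    rw [_root_.commutator_def, map_commutator, map_top_of_surjective _ T.surj, ← _root_.commutator_def, hX2]
  refine ⟨?_, ?_⟩
  swap
  · refine le_antisymm (fun u hu => ?_) fun u hu => mem_center_iff.2 fun v => Subtype.ext ?_
    · have h : T.φ u ∈ Subgroup.center X := mem_center_iff.2 fun v => by
        obtain ⟨w, rfl⟩ := T.surj v
        rw [← map_mul, ← map_mul, mem_center_iff.1 hu w]
      rw [hX1, mem_bot] at h
      exact h
    · obtain ⟨n, hn⟩ := mem_zpowers_iff.1 (hker.1 hu)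
      show (v : G) * (u : G) = (u : G) * v
      rw [← hn]
      exact ((show Commute (v : G) y from mem_centralizer_singleton_iff.1 v.2).zpow_right n).eq
  set DW := commutator ↥W with hDW
  suffices hy : yw ∈ DW by
    refine eq_top_iff.2 fun u _ => ?_
    obtain ⟨d, hd, hdu⟩ : T.φ u ∈ DW.map T.φ := hmap ▸ mem_top _
    obtain ⟨n, hn⟩ := mem_zpowers_iff.1 ((T.ker (d⁻¹ * u)).1 (by rw [map_mul, map_inv, hdu, inv_mul_cancel]))
    have e : u = d * yw ^ n := by
      rw [show yw ^ n = d⁻¹ * u from Subtype.ext (by rw [Subgroup.coe_zpow]; exact hn), mul_inv_cancel_left]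
    rw [e]
    exact mul_mem hd (zpow_mem hy n)
  by_contra hy
  have htriv : ∀ u ∈ DW, T.φ u = 1 → u = 1 := by
    intro u hu hu1
    obtain ⟨n, hn⟩ := mem_zpowers_iff.1 ((T.ker u).1 hu1)
    have hy3 : yw ^ (3 : ℤ) = 1 := by
      rw [show (3 : ℤ) = ((3 : ℕ) : ℤ) from rfl, zpow_natCast]
      exact Subtype.ext D.y3
    have hu' : u = yw ^ n := Subtype.ext (by rw [Subgroup.coe_zpow]; exact hn.symm)
    rw [hu', zpow_eq_zpow_emod n hy3] at hu ⊢
    rcases (by omega : n % 3 = 0 ∨ n % 3 = 1 ∨ n % 3 = 2) with e | e | e <;> rw [e] at hu ⊢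
    · exact zpow_zero yw
    · exact absurd (by rwa [zpow_one] at hu) hy
    · exfalso
      refine hy ?_
      have : yw = (yw ^ (2 : ℤ))⁻¹ := by
        rw [eq_inv_iff_mul_eq_one, mul_self_zpow]
        exact hy3
      rw [this]
      exact inv_mem hu
  have hinj : ∀ u ∈ DW, ∀ v ∈ DW, T.φ u = T.φ v → u = v := fun u hu v hv e =>
    inv_mul_eq_one.1 (htriv _ (mul_mem (inv_mem hu) hv) (by rw [map_mul, map_inv, e, inv_mul_cancel]))
  -- the rotation lies in the commutator subgroup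
  have haD : aw ∈ DW := by
    obtain ⟨d, hd, hde⟩ : T.φ aw ∈ DW.map T.φ := hmap ▸ mem_top _
    set x : ↥W := d⁻¹ * aw with hx
    have hxy : (x : G) ∈ zpowers y := (T.ker x).1 (by rw [hx, map_mul, map_inv, hde, inv_mul_cancel])
    obtain ⟨n, hn⟩ := mem_zpowers_iff.1 hxy
    obtain ⟨k, hkz, -, hkA, hky⟩ := D.exists_inv
    have hkW : ∀ u ∈ W, k * u * k⁻¹ ∈ W := fun u hu => mem_centralizer_singleton_iff.2 (by
      have h1 : Commute u y⁻¹ := (show Commute u y from mem_centralizer_singleton_iff.1 hu).inv_right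
      have h2 : k * y⁻¹ * k⁻¹ = y := by
        rw [show k * y⁻¹ * k⁻¹ = (k * y * k⁻¹)⁻¹ by group, hky, inv_inv]
      calc k * u * k⁻¹ * y = k * u * k⁻¹ * (k * y⁻¹ * k⁻¹) := by rw [h2]
        _ = k * (u * y⁻¹) * k⁻¹ := by group
        _ = k * (y⁻¹ * u) * k⁻¹ := by rw [h1.eq]
        _ = (k * y⁻¹ * k⁻¹) * (k * u * k⁻¹) := by group
        _ = _ := by rw [h2])
    have hkD : k * (d : G) * k⁻¹ ∈ DW.map W.subtype := by
      have h1 : (d : G) ∈ ⁅W, W⁆ := by
        rw [← map_subtype_commutator W]; exact ⟨d, hd, rfl⟩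
      have h2 : k * (d : G) * k⁻¹ ∈ ⁅W.map (MulAut.conj k).toMonoidHom, W.map (MulAut.conj k).toMonoidHom⁆ := by
        rw [← map_commutator]; exact ⟨_, h1, rfl⟩
      have hle : W.map (MulAut.conj k).toMonoidHom ≤ W := by
        rintro _ ⟨u, hu, rfl⟩; exact hkW u hu
      rw [map_subtype_commutator W]
      exact commutator_mono hle hle h2
    obtain ⟨d', hd', hd'e⟩ := hkD
    let q : ↥W := ⟨k * P.a2 * k⁻¹ * P.a2⁻¹, mul_mem (hkW _ aw.2) (inv_mem aw.2)⟩
    have hqQ : (q : G) ∈ Q := by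
      have h1 : k * P.a2 * k⁻¹ * z = z * (k * P.a2 * k⁻¹) :=
        SuzukiType.mul_z (SuzukiType.mul_z hkz P.a2z) (inv_z hkz)
      refine (D.S.act'_one_iff (SuzukiType.mul_z h1 (inv_z P.a2z))).1 ?_
      rw [D.S.act'_mul h1 (inv_z P.a2z), D.act'_conj hkz P.a2z, D.S.act'_inv P.a2z, hkA, P.act2, mul_inv_eq_one,
        mul_inv_eq_iff_eq_mul]
      exact ext_act fun v => by simp only [act_mul, (o_act _).2.1, (o_act _).2.2.2.2.1, (inv_spec v).2.1]
    have hkx : k * (x : G) * k⁻¹ = (x : G)⁻¹ := by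
      rw [← hn, ← conj_zpow, hky, inv_zpow]
    have hxc : ∀ u : ↥W, Commute (x : G) (u : G) := fun u => hn ▸
      ((show Commute y (u : G) from (mem_centralizer_singleton_iff.1 u.2).symm).zpow_left n)
    have hd'' : d' = q * aw * x := Subtype.ext (by
      show (d' : G) = k * P.a2 * k⁻¹ * P.a2⁻¹ * P.a2 * (x : G)
      rw [inv_mul_cancel_right, show (d' : G) = k * (d : G) * k⁻¹ from hd'e,
        show (d : G) = P.a2 * (x : G)⁻¹ from congrArg Subtype.val (show d = aw * x⁻¹ by rw [hx]; group)]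
      calc k * (P.a2 * (x : G)⁻¹) * k⁻¹ = k * P.a2 * k⁻¹ * (k * (x : G) * k⁻¹)⁻¹ := by group
        _ = _ := by rw [hkx, inv_inv])
    have hmem : q * (x * x) ∈ DW := by
      have h1 : d' * d⁻¹ ∈ DW := mul_mem hd' (inv_mem hd)
      have hax : x * aw⁻¹ = aw⁻¹ * x := Subtype.ext (hxc aw⁻¹).eq
      rwa [hd'', show d = aw * x⁻¹ by rw [hx]; group, mul_inv_rev, inv_inv, ← mul_assoc,
        show q * aw * x * x * aw⁻¹ = q * (x * x) by
          rw [mul_assoc _ x aw⁻¹, hax, ← mul_assoc _ aw⁻¹, mul_assoc (q * aw) x aw⁻¹, hax]; group] at h1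
    have hx3 : x ^ 3 = 1 := Subtype.ext (by
      show (x : G) ^ 3 = 1
      rw [← hn, ← zpow_natCast, ← zpow_mul, mul_comm, zpow_mul, zpow_natCast, D.y3, one_zpow])
    have hq4 : q ^ 4 = 1 := Subtype.ext (D.q_pow_four hqQ)
    have hqx : Commute q x := Subtype.ext (hxc q).eq.symm
    have h8 : x ∈ DW := by
      have h := pow_mem (pow_mem hmem 4) 2
      rw [(hqx.mul_right hqx).mul_pow, hq4, one_mul, ← pow_two, ← pow_mul, ← pow_mul,
        show 2 * 4 * 2 = 3 * 5 + 1 by norm_num, pow_succ, pow_mul, hx3, one_pow, one_mul] at h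
      exact h
    have : x = 1 := htriv x h8 ((T.ker x).2 hxy)
    rw [show aw = d * x by rw [hx, mul_inv_cancel_left], this, mul_one]
    exact hd
  -- lifting
  have hder : InDer (P.a2) := by
    have h := D.inDer_rot T P hr
    set Sa : Subgroup ↥W := DW ⊓ centralizer ({aw} : Set ↥W) with hSa
    have hle : centralizer ({T.φ aw} : Set X) ≤ Sa.map T.φ := by
      intro x hx
      obtain ⟨u, hu, rfl⟩ : x ∈ DW.map T.φ := hmap ▸ mem_top _
      refine ⟨u, ⟨hu, mem_centralizer_singleton_iff.2 ?_⟩, rfl⟩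
      exact hinj _ (mul_mem hu haD) _ (mul_mem haD hu) (by
        rw [map_mul, map_mul, mem_centralizer_singleton_iff.1 hx])
    obtain ⟨w, hw, hwe⟩ : T.φ aw ∈ (⁅Sa, Sa⁆).map T.φ := by
      rw [map_commutator]; exact commutator_mono hle hle h
    have hwD : w ∈ DW := by
      rw [hDW, _root_.commutator_def]
      exact commutator_mono le_top le_top hw
    obtain rfl := hinj _ hwD _ haD hwe
    have hle' : Sa.map W.subtype ≤ centralizer ({P.a2} : Set G) := by
      rintro _ ⟨u, hu, rfl⟩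
      exact mem_centralizer_singleton_iff.2 (congrArg Subtype.val (mem_centralizer_singleton_iff.1 hu.2))
    refine commutator_mono hle' hle' ?_
    rw [← map_commutator]
    exact ⟨_, hw, rfl⟩
  obtain ⟨c0, hc0, hc0A⟩ := D.lift_omega o_mem.2.2.2.2.2
  obtain ⟨c, -, -, -, hcy⟩ := D.exists_lift ⊤ D.y3 D.yz (mem_top _) P.a2p P.a2z (mem_top _) hc0 (mem_top _) hc0A (by
    rw [D.act_eq_o1, P.act2, mul_inv_eq_iff_eq_mul]
    exact ext_act fun v => by simp only [act_mul, (o_act _).1, (o_act _).2.1, (o_act _).2.2.2.2.2, move_spec])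
  have hyD : InDer y := inDer_of_conj (g := c) (hcy ▸ hder)
  unfold InDer at hyD
  rw [← hW, ← map_subtype_commutator W] at hyD
  obtain ⟨u, hu, hue⟩ := hyD
  exact hy ((Subtype.ext hue : u = yw) ▸ hu)

end Su

end Cfsg.Agent.SuzukiThree
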